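import Cfsg.Agent.Lib.PermAut.MTwentyTwo
import Cfsg.Agent.Lib.PermAut.Proj
import Cfsg.Agent.Lib.Concrete.SporMathieu

/-!
# Cyclic stem covers of certified groups and the model of the Mathieu group of degree 22
-/

set_option autoImplicit false

namespace Cfsg.Lib.PermAut

open Equiv Cfsg.Lib.Concrete
open scoped commutatorElement

variable {b b' N M : ℕ} [NeZero N] [NeZero M]

/-- A central commutator of the right order over the restriction to the first points gives a cyclic stem cover. -/
theorem exists_stem_cyclic {H T : Sub} (V : H.Valid b N) (VT : T.Valid b' M) (hM : M ≤ N) {n : ℕ}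
    (hr : (restB b b' M [H.g0] T.g0 && restB b b' M [H.g1] T.g1) = true) {z zi : ℕ} {u v zp : List ℕ}
    (hz : (invPairOk b N z zi && H.centralB b N M z u v zp) = true)
    (hord : ∀ k < n, 0 < k → sameB b N (List.replicate k z) [] = false) (hcard : H.size = n * T.size) :
    ∃ σ : ↥(H.grp b N) →* ↥(T.grp b' M), IsStemExtension σ ∧ Nat.card σ.ker = n ∧ IsCyclic σ.ker := by
  rw [Bool.and_eq_true] at hr hz
  obtain ⟨φ, hφ, hrange⟩ := exists_restrict V hM VT.g0 VT.g1 hr.1 hr.2
  have hrg : φ.range = T.grp b' M := hrange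
  let σ : ↥(H.grp b N) →* ↥(T.grp b' M) :=
    (MulEquiv.subgroupCongr hrg).toMonoidHom.comp φ.rangeRestrict
  have hs : Function.Surjective σ := (MulEquiv.subgroupCongr hrg).surjective.comp φ.rangeRestrict_surjective
  have hR : Rep b (toP b N z) z := (rep_of_invPairOk hz.1).1
  have hc := hz.2
  simp only [Sub.centralB, Bool.and_eq_true, Bool.not_eq_true'] at hc
  obtain ⟨⟨⟨⟨⟨⟨⟨⟨hu, hv⟩, hp⟩, hsz⟩, hc0⟩, hc1⟩, hcom⟩, -⟩, hfix⟩ := hc
  let Z : ↥(H.grp b N) := ⟨_, V.mem_of_same hR hp hsz⟩
  have hzk : Z ∈ σ.ker := MonoidHom.mem_ker.2 (Subtype.ext (Equiv.ext fun x =>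
    Fin.castLE_injective hM ((hφ Z x).symm.trans (Fin.ext (by
      have e := ev_rep (b := b) (l := [z]) (by simpa using hR) (Fin.castLE hM x)
      rw [List.map_singleton, List.prod_singleton] at e
      exact e.trans (Nat.eq_of_beq_eq_true (sameB_iff.1 hfix x x.isLt)))))))
  have hcardk : Nat.card σ.ker = n := by
    have h := σ.ker.card_mul_index
    rw [Subgroup.index_ker, MonoidHom.range_eq_top.2 hs, Subgroup.card_top, VT.card, V.card, hcard] at h
    exact Nat.eq_of_mul_eq_mul_right (VT.card ▸ Nat.card_pos) h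
  have hn : orderOf Z = n := by
    have hd : orderOf Z ∣ n := hcardk ▸ (Nat.card_zpowers Z ▸
      Subgroup.card_dvd_of_le (Subgroup.zpowers_le.2 hzk))
    refine le_antisymm (Nat.le_of_dvd (hcardk ▸ Nat.card_pos) hd) (not_lt.1 fun hlt => ?_)
    have hp : (toP b N z) ^ orderOf Z = 1 := congrArg Subtype.val (pow_orderOf_eq_one Z)
    have hsame : sameB b N (List.replicate (orderOf Z) z) [] = true := sameB_iff.2 fun x hx => by
      have e := ev_rep (b := b) (l := List.replicate (orderOf Z) z)
        (fun S hS => (List.eq_of_mem_replicate hS).symm ▸ hR) ⟨x, hx⟩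
      rw [List.map_replicate, List.prod_replicate, hp] at e
      rw [Nat.beq_eq]
      exact e.symm
    rw [hord _ hlt (orderOf_pos Z)] at hsame
    exact Bool.noConfusion hsame
  have hker : Subgroup.zpowers Z = σ.ker :=
    Subgroup.eq_of_le_of_card_ge (Subgroup.zpowers_le.2 hzk) (by rw [hcardk, Nat.card_zpowers, hn])
  refine ⟨σ, ⟨hs, ?_, ?_⟩, hcardk, hker ▸ Subgroup.isCyclic_zpowers Z⟩
  · rw [← hker, Subgroup.zpowers_le]
    have key : ∀ {S : ℕ}, Rep b (toP b N S) S → sameB b N [z, S] [S, z] = true →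
        toP b N z * toP b N S = toP b N S * toP b N z := fun {S} hS hs => by
      simpa using eq_of_sameB (l := [z, S]) (l' := [S, z]) (by simp [hR, hS]) (by simp [hR, hS]) hs
    have hle : H.grp b N ≤ Subgroup.centralizer {toP b N z} := by
      rw [Sub.grp, Subgroup.closure_le]
      rintro x (rfl | rfl) <;> refine Subgroup.mem_centralizer_iff.2 fun y hy => ?_ <;>
        rw [Set.mem_singleton_iff.1 hy]
      · exact key V.g0 hc0
      · exact key V.g1 hc1
    exact Subgroup.mem_center_iff.2 fun g =>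
      Subtype.ext ((Subgroup.mem_centralizer_iff.1 (hle g.2)) _ rfl).symm
  · rw [← hker, Subgroup.zpowers_le]
    let U : ↥(H.grp b N) := ⟨_, V.mem_of_path hu⟩
    let W : ↥(H.grp b N) := ⟨_, V.mem_of_path hv⟩
    have hUW : W * (U * Z) = U * W := by
      refine Subtype.ext ?_
      have gu := V.good_of_path hu
      have gv := V.good_of_path hv
      have e := eq_of_sameB (fun S hS => by
        rcases List.mem_append.1 hS with hS | hS
        · exact gv S hS
        rcases List.mem_append.1 hS with hS | hS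
        · exact gu S hS
        · rw [List.mem_singleton.1 hS]; exact hR)
        (fun S hS => (List.mem_append.1 hS).elim (gu S) (gv S)) hcom
      simp only [List.map_append, List.prod_append, List.map_singleton, List.prod_singleton] at e
      exact e
    have e : Z = ⁅U⁻¹, W⁻¹⁆ := by
      rw [commutatorElement_def, inv_inv, inv_inv, mul_assoc _ U W, ← hUW]
      group
    rw [e]
    exact Subgroup.commutator_mem_commutator (Subgroup.mem_top _) (Subgroup.mem_top _)

end Cfsg.Lib.PermAut

namespace Cfsg.Lib.PermAut.MTwentyTwo.Mult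

open Cfsg Cfsg.Lib.Concrete Cfsg.Lib.MathieuBlock MulAction

theorem m22_valid : m22Sub.Valid 5 24 := Sub.valid sub_ok

theorem m22Size : m22Sub.size = 443520 := by decide +kernel

/-- The certified group of degree 22 is the target. -/
theorem nonempty_model : Nonempty (↥(m22Sub.grp 5 24) ≃* ↥Spor.M22) := by
  obtain ⟨hex, hey, -⟩ := elem_checks
  obtain ⟨x, hx⟩ := exists_mem hex
  obtain ⟨y, hy⟩ := exists_mem hey
  let ψ : ↥(fixB 2) →* Equiv.Perm (Fin 24) := ptEquiv.permCongrHom.toMonoidHom.comp (fixB 2).subtype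
  have hψ : Function.Injective ψ := ptEquiv.permCongrHom.injective.comp Subtype.val_injective
  have hle : m22Sub.grp 5 24 ≤ ψ.range := by
    rw [Sub.grp, Subgroup.closure_le]
    rintro w (rfl | rfl)
    · exact ⟨x, map_rep hx⟩
    · exact ⟨y, map_rep hy⟩
  have hr : m22Sub.grp 5 24 = ψ.range := by
    refine Subgroup.eq_of_le_of_card_ge hle ?_
    rw [← Nat.card_congr (MonoidHom.ofInjective hψ).toEquiv, card_fixB_eq (by norm_num), m22_valid.card]
    exact (by decide +kernel)
  obtain ⟨e⟩ := stab_equiv none_ne_zeroPt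
  exact ⟨((MulEquiv.subgroupCongr hr).trans (MonoidHom.ofInjective hψ).symm).trans (e.trans sporM22Equiv)⟩

end Cfsg.Lib.PermAut.MTwentyTwo.Mult
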