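import Cfsg.Agent.Lib.PermAut.MTwentyTwoMult.FourData
import Cfsg.Agent.Lib.PermAut.CertSplit

/-!
# A subgroup of odd index in the fourfold cover
-/

set_option autoImplicit false
set_option maxRecDepth 100000
set_option Elab.async false

namespace Cfsg.Lib.PermAut.MTwentyTwo.Mult

open Cfsg.Lib.Concrete

theorem fourHex_tree0 : Split.treeB 13 4952 fourHex.lev fourHex.sg fourHex.par fourHex.close = true := by
  decide +kernel

theorem fourHex_rows0_0 : Split.rowsB 13 4952 fourHex.lev
    ((fourHex.sg.headD []).take 3)
    ((fourHex.close.headD []).take 3) = true := by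
  decide +kernel

theorem fourHex_rows0_1 : Split.rowsB 13 4952 fourHex.lev
    (((fourHex.sg.headD []).drop 3).take 3)
    (((fourHex.close.headD []).drop 3).take 3) = true := by
  decide +kernel

theorem fourHex_rows0_2 : Split.rowsB 13 4952 fourHex.lev
    (((fourHex.sg.headD []).drop 3).drop 3)
    (((fourHex.close.headD []).drop 3).drop 3) = true := by
  decide +kernel

theorem fourHex_rows0 : Split.rowsB 13 4952 fourHex.lev (fourHex.sg.headD []) (fourHex.close.headD []) = true :=
  Split.rowsB_cut 3 fourHex_rows0_0 <| Split.rowsB_cut 3 fourHex_rows0_1 <| fourHex_rows0_2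

theorem fourHex_tree1 : Split.treeB 13 4952 fourHex.lev.tail fourHex.sg.tail fourHex.par.tail fourHex.close.tail = true := by
  decide +kernel

theorem fourHex_rows1_0 : Split.rowsB 13 4952 fourHex.lev.tail
    ((fourHex.sg.tail.headD []).take 3)
    ((fourHex.close.tail.headD []).take 3) = true := by
  decide +kernel

theorem fourHex_rows1_1 : Split.rowsB 13 4952 fourHex.lev.tail
    ((fourHex.sg.tail.headD []).drop 3)
    ((fourHex.close.tail.headD []).drop 3) = true := by
  decide +kernel

theorem fourHex_rows1 : Split.rowsB 13 4952 fourHex.lev.tail (fourHex.sg.tail.headD []) (fourHex.close.tail.headD []) = true :=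
  Split.rowsB_cut 3 fourHex_rows1_0 <| fourHex_rows1_1

theorem fourHex_tree2 : Split.treeB 13 4952 fourHex.lev.tail.tail fourHex.sg.tail.tail fourHex.par.tail.tail fourHex.close.tail.tail = true := by
  decide +kernel

theorem fourHex_rows2_0 : Split.rowsB 13 4952 fourHex.lev.tail.tail
    ((fourHex.sg.tail.tail.headD []).take 3)
    ((fourHex.close.tail.tail.headD []).take 3) = true := by
  decide +kernel

theorem fourHex_rows2_1 : Split.rowsB 13 4952 fourHex.lev.tail.tail
    ((fourHex.sg.tail.tail.headD []).drop 3)
    ((fourHex.close.tail.tail.headD []).drop 3) = true := by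
  decide +kernel

theorem fourHex_rows2 : Split.rowsB 13 4952 fourHex.lev.tail.tail (fourHex.sg.tail.tail.headD []) (fourHex.close.tail.tail.headD []) = true :=
  Split.rowsB_cut 3 fourHex_rows2_0 <| fourHex_rows2_1

theorem fourHex_tree3 : Split.treeB 13 4952 fourHex.lev.tail.tail.tail fourHex.sg.tail.tail.tail fourHex.par.tail.tail.tail fourHex.close.tail.tail.tail = true := by
  decide +kernel

theorem fourHex_rows3_0 : Split.rowsB 13 4952 fourHex.lev.tail.tail.tail
    ((fourHex.sg.tail.tail.tail.headD []).take 1)
    ((fourHex.close.tail.tail.tail.headD []).take 1) = true := by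
  decide +kernel

theorem fourHex_rows3_1 : Split.rowsB 13 4952 fourHex.lev.tail.tail.tail
    (((fourHex.sg.tail.tail.tail.headD []).drop 1).take 1)
    (((fourHex.close.tail.tail.tail.headD []).drop 1).take 1) = true := by
  decide +kernel

theorem fourHex_rows3_2 : Split.rowsB 13 4952 fourHex.lev.tail.tail.tail
    ((((fourHex.sg.tail.tail.tail.headD []).drop 1).drop 1).take 1)
    ((((fourHex.close.tail.tail.tail.headD []).drop 1).drop 1).take 1) = true := by
  decide +kernel

theorem fourHex_rows3_3 : Split.rowsB 13 4952 fourHex.lev.tail.tail.tail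
    ((((fourHex.sg.tail.tail.tail.headD []).drop 1).drop 1).drop 1)
    ((((fourHex.close.tail.tail.tail.headD []).drop 1).drop 1).drop 1) = true := by
  decide +kernel

theorem fourHex_rows3 : Split.rowsB 13 4952 fourHex.lev.tail.tail.tail (fourHex.sg.tail.tail.tail.headD []) (fourHex.close.tail.tail.tail.headD []) = true :=
  Split.rowsB_cut 1 fourHex_rows3_0 <| Split.rowsB_cut 1 fourHex_rows3_1 <| Split.rowsB_cut 1 fourHex_rows3_2 <| fourHex_rows3_3

theorem fourHex_tree4 : Split.treeB 13 4952 fourHex.lev.tail.tail.tail.tail fourHex.sg.tail.tail.tail.tail fourHex.par.tail.tail.tail.tail fourHex.close.tail.tail.tail.tail = true := by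
  decide +kernel

theorem fourHex_rows4_0 : Split.rowsB 13 4952 fourHex.lev.tail.tail.tail.tail
    (fourHex.sg.tail.tail.tail.tail.headD [])
    (fourHex.close.tail.tail.tail.tail.headD []) = true := by
  decide +kernel

theorem fourHex_rows4 : Split.rowsB 13 4952 fourHex.lev.tail.tail.tail.tail (fourHex.sg.tail.tail.tail.tail.headD []) (fourHex.close.tail.tail.tail.tail.headD []) = true :=
  fourHex_rows4_0

theorem fourHex_tree5 : Split.treeB 13 4952 fourHex.lev.tail.tail.tail.tail.tail fourHex.sg.tail.tail.tail.tail.tail fourHex.par.tail.tail.tail.tail.tail fourHex.close.tail.tail.tail.tail.tail = true := by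
  decide +kernel

theorem fourHex_rows5_0 : Split.rowsB 13 4952 fourHex.lev.tail.tail.tail.tail.tail
    (fourHex.sg.tail.tail.tail.tail.tail.headD [])
    (fourHex.close.tail.tail.tail.tail.tail.headD []) = true := by
  decide +kernel

theorem fourHex_rows5 : Split.rowsB 13 4952 fourHex.lev.tail.tail.tail.tail.tail (fourHex.sg.tail.tail.tail.tail.tail.headD []) (fourHex.close.tail.tail.tail.tail.tail.headD []) = true :=
  fourHex_rows5_0

theorem fourHex_end : closedB 13 4952 fourHex.lev.tail.tail.tail.tail.tail.tail fourHex.sg.tail.tail.tail.tail.tail.tail fourHex.par.tail.tail.tail.tail.tail.tail fourHex.close.tail.tail.tail.tail.tail.tail = true := by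
  decide +kernel

theorem fourHex_pre : Split.preB fourHex 13 4952 = true := by
  decide +kernel

theorem fourHex_base : Split.baseB fourHex 13 4952 = true := by
  decide +kernel

theorem fourHex_ok : fourHex.ok 13 4952 = true := Split.ok_of_parts fourHex_pre (Split.closedB_of fourHex_tree0 fourHex_rows0 (Split.closedB_of fourHex_tree1 fourHex_rows1 (Split.closedB_of fourHex_tree2 fourHex_rows2 (Split.closedB_of fourHex_tree3 fourHex_rows3 (Split.closedB_of fourHex_tree4 fourHex_rows4 (Split.closedB_of fourHex_tree5 fourHex_rows5 fourHex_end)))))) fourHex_base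

theorem fourHex_top : (pathOk fourSub.lev hexP0 && sameB 13 4952 [fourHex.g0] (pickPath fourSub.lev hexP0) &&
    pathOk fourSub.lev hexP1 && sameB 13 4952 [fourHex.g1] (pickPath fourSub.lev hexP1)) = true := by
  decide +kernel

end Cfsg.Lib.PermAut.MTwentyTwo.Mult
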