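import Cfsg.Agent.Lib.PermAut.MTwentyTwoMult.FourData
import Cfsg.Agent.Lib.PermAut.CertSplit

/-!
# The lower levels of the fourfold cover
-/

set_option autoImplicit false
set_option maxRecDepth 100000
set_option Elab.async false

namespace Cfsg.Lib.PermAut.MTwentyTwo.Mult

open Cfsg.Lib.Concrete

theorem fourSub_tree1 : Split.treeB 13 4952 fourSub.lev.tail fourSub.sg.tail fourSub.par.tail fourSub.close.tail = true := by
  decide +kernel

theorem fourSub_rows1_0 : Split.rowsB 13 4952 fourSub.lev.tail
    ((fourSub.sg.tail.headD []).take 1)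
    ((fourSub.close.tail.headD []).take 1) = true := by
  decide +kernel

theorem fourSub_rows1_1 : Split.rowsB 13 4952 fourSub.lev.tail
    (((fourSub.sg.tail.headD []).drop 1).take 1)
    (((fourSub.close.tail.headD []).drop 1).take 1) = true := by
  decide +kernel

theorem fourSub_rows1_2 : Split.rowsB 13 4952 fourSub.lev.tail
    ((((fourSub.sg.tail.headD []).drop 1).drop 1).take 1)
    ((((fourSub.close.tail.headD []).drop 1).drop 1).take 1) = true := by
  decide +kernel

theorem fourSub_rows1_3 : Split.rowsB 13 4952 fourSub.lev.tail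
    (((((fourSub.sg.tail.headD []).drop 1).drop 1).drop 1).take 1)
    (((((fourSub.close.tail.headD []).drop 1).drop 1).drop 1).take 1) = true := by
  decide +kernel

theorem fourSub_rows1_4 : Split.rowsB 13 4952 fourSub.lev.tail
    ((((((fourSub.sg.tail.headD []).drop 1).drop 1).drop 1).drop 1).take 1)
    ((((((fourSub.close.tail.headD []).drop 1).drop 1).drop 1).drop 1).take 1) = true := by
  decide +kernel

theorem fourSub_rows1_5 : Split.rowsB 13 4952 fourSub.lev.tail
    (((((((fourSub.sg.tail.headD []).drop 1).drop 1).drop 1).drop 1).drop 1).take 1)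
    (((((((fourSub.close.tail.headD []).drop 1).drop 1).drop 1).drop 1).drop 1).take 1) = true := by
  decide +kernel

theorem fourSub_rows1_6 : Split.rowsB 13 4952 fourSub.lev.tail
    (((((((fourSub.sg.tail.headD []).drop 1).drop 1).drop 1).drop 1).drop 1).drop 1)
    (((((((fourSub.close.tail.headD []).drop 1).drop 1).drop 1).drop 1).drop 1).drop 1) = true := by
  decide +kernel

theorem fourSub_rows1 : Split.rowsB 13 4952 fourSub.lev.tail (fourSub.sg.tail.headD []) (fourSub.close.tail.headD []) = true :=
  Split.rowsB_cut 1 fourSub_rows1_0 <| Split.rowsB_cut 1 fourSub_rows1_1 <| Split.rowsB_cut 1 fourSub_rows1_2 <| Split.rowsB_cut 1 fourSub_rows1_3 <| Split.rowsB_cut 1 fourSub_rows1_4 <| Split.rowsB_cut 1 fourSub_rows1_5 <| fourSub_rows1_6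

theorem fourSub_tree2 : Split.treeB 13 4952 fourSub.lev.tail.tail fourSub.sg.tail.tail fourSub.par.tail.tail fourSub.close.tail.tail = true := by
  decide +kernel

theorem fourSub_rows2_0 : Split.rowsB 13 4952 fourSub.lev.tail.tail
    ((fourSub.sg.tail.tail.headD []).take 1)
    ((fourSub.close.tail.tail.headD []).take 1) = true := by
  decide +kernel

theorem fourSub_rows2_1 : Split.rowsB 13 4952 fourSub.lev.tail.tail
    (((fourSub.sg.tail.tail.headD []).drop 1).take 1)
    (((fourSub.close.tail.tail.headD []).drop 1).take 1) = true := by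
  decide +kernel

theorem fourSub_rows2_2 : Split.rowsB 13 4952 fourSub.lev.tail.tail
    ((((fourSub.sg.tail.tail.headD []).drop 1).drop 1).take 1)
    ((((fourSub.close.tail.tail.headD []).drop 1).drop 1).take 1) = true := by
  decide +kernel

theorem fourSub_rows2_3 : Split.rowsB 13 4952 fourSub.lev.tail.tail
    (((((fourSub.sg.tail.tail.headD []).drop 1).drop 1).drop 1).take 1)
    (((((fourSub.close.tail.tail.headD []).drop 1).drop 1).drop 1).take 1) = true := by
  decide +kernel

theorem fourSub_rows2_4 : Split.rowsB 13 4952 fourSub.lev.tail.tail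
    ((((((fourSub.sg.tail.tail.headD []).drop 1).drop 1).drop 1).drop 1).take 1)
    ((((((fourSub.close.tail.tail.headD []).drop 1).drop 1).drop 1).drop 1).take 1) = true := by
  decide +kernel

theorem fourSub_rows2_5 : Split.rowsB 13 4952 fourSub.lev.tail.tail
    ((((((fourSub.sg.tail.tail.headD []).drop 1).drop 1).drop 1).drop 1).drop 1)
    ((((((fourSub.close.tail.tail.headD []).drop 1).drop 1).drop 1).drop 1).drop 1) = true := by
  decide +kernel

theorem fourSub_rows2 : Split.rowsB 13 4952 fourSub.lev.tail.tail (fourSub.sg.tail.tail.headD []) (fourSub.close.tail.tail.headD []) = true :=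
  Split.rowsB_cut 1 fourSub_rows2_0 <| Split.rowsB_cut 1 fourSub_rows2_1 <| Split.rowsB_cut 1 fourSub_rows2_2 <| Split.rowsB_cut 1 fourSub_rows2_3 <| Split.rowsB_cut 1 fourSub_rows2_4 <| fourSub_rows2_5

theorem fourSub_tree3 : Split.treeB 13 4952 fourSub.lev.tail.tail.tail fourSub.sg.tail.tail.tail fourSub.par.tail.tail.tail fourSub.close.tail.tail.tail = true := by
  decide +kernel

theorem fourSub_rows3_0 : Split.rowsB 13 4952 fourSub.lev.tail.tail.tail
    ((fourSub.sg.tail.tail.tail.headD []).take 1)
    ((fourSub.close.tail.tail.tail.headD []).take 1) = true := by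
  decide +kernel

theorem fourSub_rows3_1 : Split.rowsB 13 4952 fourSub.lev.tail.tail.tail
    (((fourSub.sg.tail.tail.tail.headD []).drop 1).take 1)
    (((fourSub.close.tail.tail.tail.headD []).drop 1).take 1) = true := by
  decide +kernel

theorem fourSub_rows3_2 : Split.rowsB 13 4952 fourSub.lev.tail.tail.tail
    ((((fourSub.sg.tail.tail.tail.headD []).drop 1).drop 1).take 1)
    ((((fourSub.close.tail.tail.tail.headD []).drop 1).drop 1).take 1) = true := by
  decide +kernel

theorem fourSub_rows3_3 : Split.rowsB 13 4952 fourSub.lev.tail.tail.tail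
    (((((fourSub.sg.tail.tail.tail.headD []).drop 1).drop 1).drop 1).take 1)
    (((((fourSub.close.tail.tail.tail.headD []).drop 1).drop 1).drop 1).take 1) = true := by
  decide +kernel

theorem fourSub_rows3_4 : Split.rowsB 13 4952 fourSub.lev.tail.tail.tail
    (((((fourSub.sg.tail.tail.tail.headD []).drop 1).drop 1).drop 1).drop 1)
    (((((fourSub.close.tail.tail.tail.headD []).drop 1).drop 1).drop 1).drop 1) = true := by
  decide +kernel

theorem fourSub_rows3 : Split.rowsB 13 4952 fourSub.lev.tail.tail.tail (fourSub.sg.tail.tail.tail.headD []) (fourSub.close.tail.tail.tail.headD []) = true :=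
  Split.rowsB_cut 1 fourSub_rows3_0 <| Split.rowsB_cut 1 fourSub_rows3_1 <| Split.rowsB_cut 1 fourSub_rows3_2 <| Split.rowsB_cut 1 fourSub_rows3_3 <| fourSub_rows3_4

theorem fourSub_tree4 : Split.treeB 13 4952 fourSub.lev.tail.tail.tail.tail fourSub.sg.tail.tail.tail.tail fourSub.par.tail.tail.tail.tail fourSub.close.tail.tail.tail.tail = true := by
  decide +kernel

theorem fourSub_rows4_0 : Split.rowsB 13 4952 fourSub.lev.tail.tail.tail.tail
    (fourSub.sg.tail.tail.tail.tail.headD [])
    (fourSub.close.tail.tail.tail.tail.headD []) = true := by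
  decide +kernel

theorem fourSub_rows4 : Split.rowsB 13 4952 fourSub.lev.tail.tail.tail.tail (fourSub.sg.tail.tail.tail.tail.headD []) (fourSub.close.tail.tail.tail.tail.headD []) = true :=
  fourSub_rows4_0

theorem fourSub_tree5 : Split.treeB 13 4952 fourSub.lev.tail.tail.tail.tail.tail fourSub.sg.tail.tail.tail.tail.tail fourSub.par.tail.tail.tail.tail.tail fourSub.close.tail.tail.tail.tail.tail = true := by
  decide +kernel

theorem fourSub_rows5_0 : Split.rowsB 13 4952 fourSub.lev.tail.tail.tail.tail.tail
    (fourSub.sg.tail.tail.tail.tail.tail.headD [])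
    (fourSub.close.tail.tail.tail.tail.tail.headD []) = true := by
  decide +kernel

theorem fourSub_rows5 : Split.rowsB 13 4952 fourSub.lev.tail.tail.tail.tail.tail (fourSub.sg.tail.tail.tail.tail.tail.headD []) (fourSub.close.tail.tail.tail.tail.tail.headD []) = true :=
  fourSub_rows5_0

theorem fourSub_end : closedB 13 4952 fourSub.lev.tail.tail.tail.tail.tail.tail fourSub.sg.tail.tail.tail.tail.tail.tail fourSub.par.tail.tail.tail.tail.tail.tail fourSub.close.tail.tail.tail.tail.tail.tail = true := by
  decide +kernel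

theorem fourSub_low : closedB 13 4952 fourSub.lev.tail fourSub.sg.tail fourSub.par.tail fourSub.close.tail = true :=
  (Split.closedB_of fourSub_tree1 fourSub_rows1 (Split.closedB_of fourSub_tree2 fourSub_rows2 (Split.closedB_of fourSub_tree3 fourSub_rows3 (Split.closedB_of fourSub_tree4 fourSub_rows4 (Split.closedB_of fourSub_tree5 fourSub_rows5 fourSub_end)))))

end Cfsg.Lib.PermAut.MTwentyTwo.Mult
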