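import Cfsg.Agent.Lib.PermAut.MTwentyTwoMult.FourData
import Cfsg.Agent.Lib.PermAut.CertSplit

/-!
# Generators and separation in the fourfold cover
-/

set_option autoImplicit false
set_option maxRecDepth 100000
set_option Elab.async false

namespace Cfsg.Lib.PermAut.MTwentyTwo.Mult

open Cfsg.Lib.Concrete

theorem fourSub_pre : Split.preB fourSub 13 4952 = true := by
  decide +kernel

theorem fourSub_base : Split.baseB fourSub 13 4952 = true := by
  decide +kernel

end Cfsg.Lib.PermAut.MTwentyTwo.Mult
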