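import Cfsg.Agent.Lib.PermAut.MTwentyTwoMult.FourData
import Cfsg.Agent.Lib.PermAut.Proj
import Cfsg.Agent.Lib.PermAut.MTwentyTwoData

/-!
# The projection of the fourfold cover
-/

set_option autoImplicit false
set_option maxRecDepth 100000

namespace Cfsg.Lib.PermAut.MTwentyTwo.Mult

open Cfsg.Lib.Concrete

theorem four_rest : (restB 13 5 24 [fourSub.g0] m22Sub.g0 && restB 13 5 24 [fourSub.g1] m22Sub.g1) = true := by
  decide +kernel

theorem four_central : (invPairOk 13 4952 fourZ fourZI && fourSub.centralB 13 4952 24 fourZ fourU fourV fourZp &&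
    !(sameB 13 4952 [fourZ, fourZ] [])) = true := by
  decide +kernel

theorem four_size : fourSub.size = 4 * 443520 ∧ fourSub.size = fourHex.size * 77 := by decide +kernel

end Cfsg.Lib.PermAut.MTwentyTwo.Mult
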