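import Cfsg.Agent.Lib.PermAut.MTwentyTwoMult.FourData
import Cfsg.Agent.Lib.PermAut.CertSplit

/-!
# The top level of the fourfold cover
-/

set_option autoImplicit false
set_option maxRecDepth 100000
set_option Elab.async false

namespace Cfsg.Lib.PermAut.MTwentyTwo.Mult

open Cfsg.Lib.Concrete

theorem fourSub_tree0 : Split.treeB 13 4952 fourSub.lev fourSub.sg fourSub.par fourSub.close = true := by
  decide +kernel

theorem fourSub_rows0_0 : Split.rowsB 13 4952 fourSub.lev
    ((fourSub.sg.headD []).take 1)
    ((fourSub.close.headD []).take 1) = true := by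
  decide +kernel

theorem fourSub_rows0_1 : Split.rowsB 13 4952 fourSub.lev
    (((fourSub.sg.headD []).drop 1).take 1)
    (((fourSub.close.headD []).drop 1).take 1) = true := by
  decide +kernel

theorem fourSub_rows0_2 : Split.rowsB 13 4952 fourSub.lev
    ((((fourSub.sg.headD []).drop 1).drop 1).take 1)
    ((((fourSub.close.headD []).drop 1).drop 1).take 1) = true := by
  decide +kernel

theorem fourSub_rows0_3 : Split.rowsB 13 4952 fourSub.lev
    (((((fourSub.sg.headD []).drop 1).drop 1).drop 1).take 1)
    (((((fourSub.close.headD []).drop 1).drop 1).drop 1).take 1) = true := by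
  decide +kernel

theorem fourSub_rows0_4 : Split.rowsB 13 4952 fourSub.lev
    ((((((fourSub.sg.headD []).drop 1).drop 1).drop 1).drop 1).take 1)
    ((((((fourSub.close.headD []).drop 1).drop 1).drop 1).drop 1).take 1) = true := by
  decide +kernel

theorem fourSub_rows0_5 : Split.rowsB 13 4952 fourSub.lev
    (((((((fourSub.sg.headD []).drop 1).drop 1).drop 1).drop 1).drop 1).take 1)
    (((((((fourSub.close.headD []).drop 1).drop 1).drop 1).drop 1).drop 1).take 1) = true := by
  decide +kernel

theorem fourSub_rows0_6 : Split.rowsB 13 4952 fourSub.lev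
    ((((((((fourSub.sg.headD []).drop 1).drop 1).drop 1).drop 1).drop 1).drop 1).take 1)
    ((((((((fourSub.close.headD []).drop 1).drop 1).drop 1).drop 1).drop 1).drop 1).take 1) = true := by
  decide +kernel

theorem fourSub_rows0_7 : Split.rowsB 13 4952 fourSub.lev
    (((((((((fourSub.sg.headD []).drop 1).drop 1).drop 1).drop 1).drop 1).drop 1).drop 1).take 1)
    (((((((((fourSub.close.headD []).drop 1).drop 1).drop 1).drop 1).drop 1).drop 1).drop 1).take 1) = true := by
  decide +kernel

theorem fourSub_rows0_8 : Split.rowsB 13 4952 fourSub.lev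
    (((((((((fourSub.sg.headD []).drop 1).drop 1).drop 1).drop 1).drop 1).drop 1).drop 1).drop 1)
    (((((((((fourSub.close.headD []).drop 1).drop 1).drop 1).drop 1).drop 1).drop 1).drop 1).drop 1) = true := by
  decide +kernel

theorem fourSub_rows0 : Split.rowsB 13 4952 fourSub.lev (fourSub.sg.headD []) (fourSub.close.headD []) = true :=
  Split.rowsB_cut 1 fourSub_rows0_0 <| Split.rowsB_cut 1 fourSub_rows0_1 <| Split.rowsB_cut 1 fourSub_rows0_2 <| Split.rowsB_cut 1 fourSub_rows0_3 <| Split.rowsB_cut 1 fourSub_rows0_4 <| Split.rowsB_cut 1 fourSub_rows0_5 <| Split.rowsB_cut 1 fourSub_rows0_6 <| Split.rowsB_cut 1 fourSub_rows0_7 <| fourSub_rows0_8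


end Cfsg.Lib.PermAut.MTwentyTwo.Mult
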