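import Cfsg.Agent.Lib.PermAut.MTwentyTwoMult.FourData
import Cfsg.Agent.Lib.PermAut.MTwentyTwoMult.HexData
import Cfsg.Agent.Lib.PermAut.Proj

/-!
# The fused pair and the restriction to 88 points
-/

set_option autoImplicit false
set_option maxRecDepth 100000

namespace Cfsg.Lib.PermAut.MTwentyTwo.Mult

open Cfsg.Lib.Concrete

theorem hex_rest : (restB 13 7 88 [fourHex.g0] hexSub.g0 && restB 13 7 88 [fourHex.g1] hexSub.g1) = true := by
  decide +kernel

theorem fuse_word : all2 (fun x y => Nat.beq x y) (hexCert.rels.getD fusedRel []) (wordT ++ wordT ++ (wordE ++ wordE)) = true := by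
  decide +kernel

theorem fuse_conj : (invPairOk 13 4952 fuseTab fuseTabI && pathOk fourSub.lev fusePath &&
    sameB 13 4952 [fuseTab] (pickPath fourSub.lev fusePath) &&
    sameB 13 4952 (fuseTab :: wordE.map fourHex.gen) (wordT.map fourHex.gen ++ [fuseTab]) &&
    sameB 13 4952 ((wordE ++ wordE).map fourHex.gen) []) = true := by
  decide +kernel

theorem hex_size : fourHex.size = hexSub.size := by decide +kernel

end Cfsg.Lib.PermAut.MTwentyTwo.Mult
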