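import Cfsg.Agent.Lib.PermAut.MTwentyTwoMult.HexCheck

/-!
# The stem certificate of the preimage of a hexad stabiliser
-/

set_option autoImplicit false
set_option maxRecDepth 100000
set_option Elab.async false

namespace Cfsg.Lib.PermAut.MTwentyTwo.Mult

open Cfsg.Lib.Concrete

theorem hexCert_seg0 : segB hexCert (xorVec hexCert.m) (hexCert.steps.take 800)
    (hexCert.known0) = true := by
  decide +kernel

theorem hexCert_seg1 : segB hexCert (xorVec hexCert.m) ((hexCert.steps.drop 800).take 800)
    (markL (hexCert.steps.take 800) (hexCert.known0)) = true := by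
  decide +kernel

theorem hexCert_seg2 : segB hexCert (xorVec hexCert.m) (((hexCert.steps.drop 800).drop 800).take 800)
    (markL ((hexCert.steps.drop 800).take 800) (markL (hexCert.steps.take 800) (hexCert.known0))) = true := by
  decide +kernel

theorem hexCert_seg3 : hexCert.stepsOk (xorVec hexCert.m) (((hexCert.steps.drop 800).drop 800).drop 800)
    (markL (((hexCert.steps.drop 800).drop 800).take 800) (markL ((hexCert.steps.drop 800).take 800) (markL (hexCert.steps.take 800) (hexCert.known0)))) = true := by
  decide +kernel

theorem hexCert_steps : hexCert.stepsOk (xorVec hexCert.m) hexCert.steps hexCert.known0 = true :=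
  stepsOk_split hexCert (xorVec hexCert.m) 800 hexCert_seg0 <| stepsOk_split hexCert (xorVec hexCert.m) 800 hexCert_seg1 <| stepsOk_split hexCert (xorVec hexCert.m) 800 hexCert_seg2 <| hexCert_seg3

theorem hexCert_init : (hexCert.specOk 2 && hexCert.initOk (xorVec hexCert.m)) = true := by
  decide +kernel

theorem hexCert_combs : (Cfsg.Lib.Schur.Zero.zeroOk hexCert 2 [fusedRel] && Cfsg.Lib.Schur.Zero.combsZero hexCert (xorVec hexCert.m) [fusedRel]) = true := by
  decide +kernel

theorem hexCert_ok : Cfsg.Lib.Schur.Zero.checkZero hexCert (xorVec hexCert.m) [fusedRel] = true :=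
  checkZero_of_parts hexCert (xorVec hexCert.m) hexCert_shape hexCert_init hexCert_steps hexCert_combs

end Cfsg.Lib.PermAut.MTwentyTwo.Mult
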