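import Cfsg.Agent.Lib.PermAut.MTwentyTwoMult.HexData
import Cfsg.Agent.Lib.PermAut.CertSplit

/-!
# The preimage of a hexad stabiliser
-/

set_option autoImplicit false
set_option maxRecDepth 100000
set_option Elab.async false

namespace Cfsg.Lib.PermAut.MTwentyTwo.Mult

open Cfsg.Lib.Concrete

theorem hexSub_ok : hexSub.ok 7 88 = true := by decide +kernel

theorem hexLow_ok : hexLow.ok 7 88 = true := by decide +kernel

theorem hexSize_ok : hexSub.size = hexCert.N * hexLow.size ∧ Nat.blt 0 hexLow.size = true := by decide +kernel

theorem hexLow_odd : Nat.beq (hexLow.size % 2) 1 = true := by decide +kernel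

theorem hexCert_tab : shapeTabB hexCert = true := by decide +kernel

theorem hexCert_rels0 : relsB hexCert (hexCert.rels.take 6) = true := by
  decide +kernel

theorem hexCert_rels1 : relsB hexCert ((hexCert.rels.drop 6).take 6) = true := by
  decide +kernel

theorem hexCert_rels2 : relsB hexCert (((hexCert.rels.drop 6).drop 6).take 6) = true := by
  decide +kernel

theorem hexCert_rels3 : relsB hexCert ((((hexCert.rels.drop 6).drop 6).drop 6).take 6) = true := by
  decide +kernel

theorem hexCert_rels4 : relsB hexCert (((((hexCert.rels.drop 6).drop 6).drop 6).drop 6).take 6) = true := by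
  decide +kernel

theorem hexCert_rels5 : relsB hexCert ((((((hexCert.rels.drop 6).drop 6).drop 6).drop 6).drop 6).take 6) = true := by
  decide +kernel

theorem hexCert_rels6 : relsB hexCert ((((((hexCert.rels.drop 6).drop 6).drop 6).drop 6).drop 6).drop 6) = true := by
  decide +kernel

theorem hexCert_shape : hexCert.shapeOk = true :=
  shapeOk_of_parts hexCert hexCert_tab <| relsB_split hexCert 6 hexCert_rels0 <| relsB_split hexCert 6 hexCert_rels1 <| relsB_split hexCert 6 hexCert_rels2 <| relsB_split hexCert 6 hexCert_rels3 <| relsB_split hexCert 6 hexCert_rels4 <| relsB_split hexCert 6 hexCert_rels5 <| hexCert_rels6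

end Cfsg.Lib.PermAut.MTwentyTwo.Mult
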