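import Cfsg.Agent.Lib.PermAut.MTwentyTwoMult.HexCheck

/-!
# The cosets of a subgroup of index prime to the degree
-/

set_option autoImplicit false
set_option maxRecDepth 100000
set_option Elab.async false

namespace Cfsg.Lib.PermAut.MTwentyTwo.Mult

open Cfsg.Lib.Concrete

/-- A part of the table of representatives. -/
def hexRep7 : NumTree := .node 10 (.node 5 (.node 2 (.node 1 (.leaf st32) (.leaf st0)) (.node 1 (.leaf st2) (.node 1 (.leaf st13) (.leaf st23)))) (.node 2 (.node 1 (.leaf st33) (.leaf st3)) (.node 1 (.leaf st1) (.node 1 (.leaf st14) (.leaf st63))))) (.node 5 (.node 2 (.node 1 (.leaf st4) (.leaf st34)) (.node 1 (.leaf st64) (.node 1 (.leaf st65) (.leaf st66)))) (.node 2 (.node 1 (.leaf st15) (.leaf st67)) (.node 1 (.leaf st37) (.node 1 (.leaf st36) (.leaf st5)))))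

/-- A part of the table of representatives. -/
def hexRep8 : NumTree := .node 10 (.node 5 (.node 2 (.node 1 (.leaf st35) (.leaf st68)) (.node 1 (.leaf st69) (.node 1 (.leaf st70) (.leaf st71)))) (.node 2 (.node 1 (.leaf st72) (.leaf st73)) (.node 1 (.leaf st74) (.node 1 (.leaf st75) (.leaf st76))))) (.node 5 (.node 2 (.node 1 (.leaf st77) (.leaf st24)) (.node 1 (.leaf st78) (.node 1 (.leaf st79) (.leaf st80)))) (.node 2 (.node 1 (.leaf st81) (.leaf st82)) (.node 1 (.leaf st83) (.node 1 (.leaf st84) (.leaf st85)))))

/-- A part of the table of representatives. -/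
def hexRep6 : NumTree := .node 20 (hexRep7) (hexRep8)

/-- A part of the table of representatives. -/
def hexRep10 : NumTree := .node 10 (.node 5 (.node 2 (.node 1 (.leaf st86) (.leaf st87)) (.node 1 (.leaf st88) (.node 1 (.leaf st89) (.leaf st90)))) (.node 2 (.node 1 (.leaf st91) (.leaf st92)) (.node 1 (.leaf st93) (.node 1 (.leaf st94) (.leaf st95))))) (.node 5 (.node 2 (.node 1 (.leaf st96) (.leaf st97)) (.node 1 (.leaf st98) (.node 1 (.leaf st16) (.leaf st99)))) (.node 2 (.node 1 (.leaf st100) (.leaf st25)) (.node 1 (.leaf st101) (.node 1 (.leaf st102) (.leaf st38)))))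

/-- A part of the table of representatives. -/
def hexRep11 : NumTree := .node 10 (.node 5 (.node 2 (.node 1 (.leaf st103) (.leaf st104)) (.node 1 (.leaf st28) (.node 1 (.leaf st105) (.leaf st106)))) (.node 2 (.node 1 (.leaf st6) (.leaf st107)) (.node 1 (.leaf st108) (.node 1 (.leaf st109) (.leaf st110))))) (.node 5 (.node 2 (.node 1 (.leaf st111) (.leaf st112)) (.node 1 (.leaf st113) (.node 1 (.leaf st114) (.leaf st115)))) (.node 2 (.node 1 (.leaf st116) (.leaf st117)) (.node 1 (.leaf st118) (.node 1 (.leaf st119) (.leaf st120)))))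

/-- A part of the table of representatives. -/
def hexRep9 : NumTree := .node 20 (hexRep10) (hexRep11)

/-- A part of the table of representatives. -/
def hexRep5 : NumTree := .node 40 (hexRep6) (hexRep9)

/-- A part of the table of representatives. -/
def hexRep14 : NumTree := .node 10 (.node 5 (.node 2 (.node 1 (.leaf st121) (.leaf st122)) (.node 1 (.leaf st123) (.node 1 (.leaf st124) (.leaf st125)))) (.node 2 (.node 1 (.leaf st126) (.leaf st127)) (.node 1 (.leaf st128) (.node 1 (.leaf st129) (.leaf st130))))) (.node 5 (.node 2 (.node 1 (.leaf st131) (.leaf st132)) (.node 1 (.leaf st133) (.node 1 (.leaf st134) (.leaf st17)))) (.node 2 (.node 1 (.leaf st135) (.leaf st136)) (.node 1 (.leaf st137) (.node 1 (.leaf st138) (.leaf st26)))))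

/-- A part of the table of representatives. -/
def hexRep15 : NumTree := .node 10 (.node 5 (.node 2 (.node 1 (.leaf st139) (.leaf st140)) (.node 1 (.leaf st141) (.node 1 (.leaf st142) (.leaf st143)))) (.node 2 (.node 1 (.leaf st144) (.leaf st145)) (.node 1 (.leaf st146) (.node 1 (.leaf st147) (.leaf st148))))) (.node 5 (.node 2 (.node 1 (.leaf st149) (.leaf st150)) (.node 1 (.leaf st151) (.node 1 (.leaf st152) (.leaf st153)))) (.node 2 (.node 1 (.leaf st7) (.leaf st154)) (.node 1 (.leaf st155) (.node 1 (.leaf st156) (.leaf st157)))))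

/-- A part of the table of representatives. -/
def hexRep13 : NumTree := .node 20 (hexRep14) (hexRep15)

/-- A part of the table of representatives. -/
def hexRep17 : NumTree := .node 10 (.node 5 (.node 2 (.node 1 (.leaf st158) (.leaf st159)) (.node 1 (.leaf st160) (.node 1 (.leaf st161) (.leaf st162)))) (.node 2 (.node 1 (.leaf st163) (.leaf st164)) (.node 1 (.leaf st165) (.node 1 (.leaf st166) (.leaf st167))))) (.node 5 (.node 2 (.node 1 (.leaf st168) (.leaf st169)) (.node 1 (.leaf st170) (.node 1 (.leaf st171) (.leaf st172)))) (.node 2 (.node 1 (.leaf st173) (.leaf st174)) (.node 1 (.leaf st175) (.node 1 (.leaf st176) (.leaf st177)))))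

/-- A part of the table of representatives. -/
def hexRep18 : NumTree := .node 10 (.node 5 (.node 2 (.node 1 (.leaf st178) (.leaf st179)) (.node 1 (.leaf st180) (.node 1 (.leaf st181) (.leaf st182)))) (.node 2 (.node 1 (.leaf st183) (.leaf st184)) (.node 1 (.leaf st185) (.node 1 (.leaf st186) (.leaf st187))))) (.node 5 (.node 2 (.node 1 (.leaf st188) (.leaf st189)) (.node 1 (.leaf st190) (.node 1 (.leaf st191) (.leaf st192)))) (.node 2 (.node 1 (.leaf st193) (.leaf st194)) (.node 1 (.leaf st195) (.node 1 (.leaf st196) (.leaf st197)))))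

/-- A part of the table of representatives. -/
def hexRep16 : NumTree := .node 20 (hexRep17) (hexRep18)

/-- A part of the table of representatives. -/
def hexRep12 : NumTree := .node 40 (hexRep13) (hexRep16)

/-- A part of the table of representatives. -/
def hexRep4 : NumTree := .node 80 (hexRep5) (hexRep12)

/-- A part of the table of representatives. -/
def hexRep22 : NumTree := .node 10 (.node 5 (.node 2 (.node 1 (.leaf st29) (.leaf st198)) (.node 1 (.leaf st199) (.node 1 (.leaf st200) (.leaf st201)))) (.node 2 (.node 1 (.leaf st202) (.leaf st203)) (.node 1 (.leaf st204) (.node 1 (.leaf st205) (.leaf st206))))) (.node 5 (.node 2 (.node 1 (.leaf st207) (.leaf st27)) (.node 1 (.leaf st208) (.node 1 (.leaf st209) (.leaf st210)))) (.node 2 (.node 1 (.leaf st211) (.leaf st212)) (.node 1 (.leaf st213) (.node 1 (.leaf st214) (.leaf st215)))))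

/-- A part of the table of representatives. -/
def hexRep23 : NumTree := .node 10 (.node 5 (.node 2 (.node 1 (.leaf st216) (.leaf st217)) (.node 1 (.leaf st218) (.node 1 (.leaf st219) (.leaf st220)))) (.node 2 (.node 1 (.leaf st221) (.leaf st222)) (.node 1 (.leaf st223) (.node 1 (.leaf st224) (.leaf st225))))) (.node 5 (.node 2 (.node 1 (.leaf st226) (.leaf st227)) (.node 1 (.leaf st228) (.node 1 (.leaf st229) (.leaf st230)))) (.node 2 (.node 1 (.leaf st231) (.leaf st232)) (.node 1 (.leaf st233) (.node 1 (.leaf st234) (.leaf st235)))))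

/-- A part of the table of representatives. -/
def hexRep21 : NumTree := .node 20 (hexRep22) (hexRep23)

/-- A part of the table of representatives. -/
def hexRep25 : NumTree := .node 10 (.node 5 (.node 2 (.node 1 (.leaf st236) (.leaf st237)) (.node 1 (.leaf st238) (.node 1 (.leaf st239) (.leaf st240)))) (.node 2 (.node 1 (.leaf st241) (.leaf st242)) (.node 1 (.leaf st243) (.node 1 (.leaf st244) (.leaf st245))))) (.node 5 (.node 2 (.node 1 (.leaf st246) (.leaf st247)) (.node 1 (.leaf st248) (.node 1 (.leaf st249) (.leaf st250)))) (.node 2 (.node 1 (.leaf st251) (.leaf st252)) (.node 1 (.leaf st253) (.node 1 (.leaf st254) (.leaf st255)))))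

/-- A part of the table of representatives. -/
def hexRep26 : NumTree := .node 10 (.node 5 (.node 2 (.node 1 (.leaf st256) (.leaf st257)) (.node 1 (.leaf st258) (.node 1 (.leaf st259) (.leaf st260)))) (.node 2 (.node 1 (.leaf st261) (.leaf st262)) (.node 1 (.leaf st263) (.node 1 (.leaf st264) (.leaf st265))))) (.node 5 (.node 2 (.node 1 (.leaf st266) (.leaf st267)) (.node 1 (.leaf st268) (.node 1 (.leaf st269) (.leaf st270)))) (.node 2 (.node 1 (.leaf st271) (.leaf st272)) (.node 1 (.leaf st273) (.node 1 (.leaf st274) (.leaf st275)))))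

/-- A part of the table of representatives. -/
def hexRep24 : NumTree := .node 20 (hexRep25) (hexRep26)

/-- A part of the table of representatives. -/
def hexRep20 : NumTree := .node 40 (hexRep21) (hexRep24)

/-- A part of the table of representatives. -/
def hexRep29 : NumTree := .node 10 (.node 5 (.node 2 (.node 1 (.leaf st276) (.leaf st277)) (.node 1 (.leaf st278) (.node 1 (.leaf st279) (.leaf st280)))) (.node 2 (.node 1 (.leaf st281) (.leaf st282)) (.node 1 (.leaf st283) (.node 1 (.leaf st284) (.leaf st285))))) (.node 5 (.node 2 (.node 1 (.leaf st286) (.leaf st287)) (.node 1 (.leaf st288) (.node 1 (.leaf st289) (.leaf st290)))) (.node 2 (.node 1 (.leaf st291) (.leaf st292)) (.node 1 (.leaf st293) (.node 1 (.leaf st294) (.leaf st295)))))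

/-- A part of the table of representatives. -/
def hexRep30 : NumTree := .node 10 (.node 5 (.node 2 (.node 1 (.leaf st296) (.leaf st297)) (.node 1 (.leaf st298) (.node 1 (.leaf st299) (.leaf st300)))) (.node 2 (.node 1 (.leaf st301) (.leaf st302)) (.node 1 (.leaf st303) (.node 1 (.leaf st304) (.leaf st305))))) (.node 5 (.node 2 (.node 1 (.leaf st306) (.leaf st30)) (.node 1 (.leaf st307) (.node 1 (.leaf st308) (.leaf st309)))) (.node 2 (.node 1 (.leaf st310) (.leaf st18)) (.node 1 (.leaf st311) (.node 1 (.leaf st312) (.leaf st313)))))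

/-- A part of the table of representatives. -/
def hexRep28 : NumTree := .node 20 (hexRep29) (hexRep30)

/-- A part of the table of representatives. -/
def hexRep32 : NumTree := .node 10 (.node 5 (.node 2 (.node 1 (.leaf st314) (.leaf st315)) (.node 1 (.leaf st316) (.node 1 (.leaf st317) (.leaf st318)))) (.node 2 (.node 1 (.leaf st319) (.leaf st320)) (.node 1 (.leaf st321) (.node 1 (.leaf st322) (.leaf st323))))) (.node 5 (.node 2 (.node 1 (.leaf st324) (.leaf st325)) (.node 1 (.leaf st326) (.node 1 (.leaf st327) (.leaf st328)))) (.node 2 (.node 1 (.leaf st329) (.leaf st330)) (.node 1 (.leaf st331) (.node 1 (.leaf st332) (.leaf st333)))))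

/-- A part of the table of representatives. -/
def hexRep33 : NumTree := .node 10 (.node 5 (.node 2 (.node 1 (.leaf st334) (.leaf st335)) (.node 1 (.leaf st336) (.node 1 (.leaf st337) (.leaf st338)))) (.node 2 (.node 1 (.leaf st339) (.leaf st340)) (.node 1 (.leaf st341) (.node 1 (.leaf st342) (.leaf st343))))) (.node 5 (.node 2 (.node 1 (.leaf st344) (.leaf st345)) (.node 1 (.leaf st346) (.node 1 (.leaf st347) (.leaf st348)))) (.node 2 (.node 1 (.leaf st349) (.leaf st350)) (.node 1 (.leaf st351) (.node 1 (.leaf st352) (.leaf st353)))))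

/-- A part of the table of representatives. -/
def hexRep31 : NumTree := .node 20 (hexRep32) (hexRep33)

/-- A part of the table of representatives. -/
def hexRep27 : NumTree := .node 40 (hexRep28) (hexRep31)

/-- A part of the table of representatives. -/
def hexRep19 : NumTree := .node 80 (hexRep20) (hexRep27)

/-- A part of the table of representatives. -/
def hexRep3 : NumTree := .node 160 (hexRep4) (hexRep19)

/-- A part of the table of representatives. -/
def hexRep38 : NumTree := .node 10 (.node 5 (.node 2 (.node 1 (.leaf st354) (.leaf st355)) (.node 1 (.leaf st356) (.node 1 (.leaf st357) (.leaf st358)))) (.node 2 (.node 1 (.leaf st359) (.leaf st360)) (.node 1 (.leaf st361) (.node 1 (.leaf st362) (.leaf st363))))) (.node 5 (.node 2 (.node 1 (.leaf st364) (.leaf st365)) (.node 1 (.leaf st366) (.node 1 (.leaf st8) (.leaf st367)))) (.node 2 (.node 1 (.leaf st368) (.leaf st369)) (.node 1 (.leaf st370) (.node 1 (.leaf st371) (.leaf st372)))))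

/-- A part of the table of representatives. -/
def hexRep39 : NumTree := .node 10 (.node 5 (.node 2 (.node 1 (.leaf st373) (.leaf st374)) (.node 1 (.leaf st375) (.node 1 (.leaf st376) (.leaf st377)))) (.node 2 (.node 1 (.leaf st378) (.leaf st379)) (.node 1 (.leaf st380) (.node 1 (.leaf st381) (.leaf st382))))) (.node 5 (.node 2 (.node 1 (.leaf st383) (.leaf st384)) (.node 1 (.leaf st385) (.node 1 (.leaf st386) (.leaf st387)))) (.node 2 (.node 1 (.leaf st388) (.leaf st389)) (.node 1 (.leaf st390) (.node 1 (.leaf st391) (.leaf st392)))))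

/-- A part of the table of representatives. -/
def hexRep37 : NumTree := .node 20 (hexRep38) (hexRep39)

/-- A part of the table of representatives. -/
def hexRep41 : NumTree := .node 10 (.node 5 (.node 2 (.node 1 (.leaf st393) (.leaf st394)) (.node 1 (.leaf st395) (.node 1 (.leaf st396) (.leaf st397)))) (.node 2 (.node 1 (.leaf st398) (.leaf st399)) (.node 1 (.leaf st400) (.node 1 (.leaf st401) (.leaf st402))))) (.node 5 (.node 2 (.node 1 (.leaf st403) (.leaf st404)) (.node 1 (.leaf st405) (.node 1 (.leaf st406) (.leaf st407)))) (.node 2 (.node 1 (.leaf st408) (.leaf st409)) (.node 1 (.leaf st410) (.node 1 (.leaf st411) (.leaf st412)))))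

/-- A part of the table of representatives. -/
def hexRep42 : NumTree := .node 10 (.node 5 (.node 2 (.node 1 (.leaf st413) (.leaf st414)) (.node 1 (.leaf st415) (.node 1 (.leaf st416) (.leaf st417)))) (.node 2 (.node 1 (.leaf st418) (.leaf st419)) (.node 1 (.leaf st420) (.node 1 (.leaf st421) (.leaf st422))))) (.node 5 (.node 2 (.node 1 (.leaf st423) (.leaf st424)) (.node 1 (.leaf st425) (.node 1 (.leaf st426) (.leaf st427)))) (.node 2 (.node 1 (.leaf st428) (.leaf st429)) (.node 1 (.leaf st430) (.node 1 (.leaf st431) (.leaf st432)))))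

/-- A part of the table of representatives. -/
def hexRep40 : NumTree := .node 20 (hexRep41) (hexRep42)

/-- A part of the table of representatives. -/
def hexRep36 : NumTree := .node 40 (hexRep37) (hexRep40)

/-- A part of the table of representatives. -/
def hexRep45 : NumTree := .node 10 (.node 5 (.node 2 (.node 1 (.leaf st433) (.leaf st434)) (.node 1 (.leaf st435) (.node 1 (.leaf st436) (.leaf st437)))) (.node 2 (.node 1 (.leaf st438) (.leaf st439)) (.node 1 (.leaf st440) (.node 1 (.leaf st441) (.leaf st442))))) (.node 5 (.node 2 (.node 1 (.leaf st443) (.leaf st444)) (.node 1 (.leaf st39) (.node 1 (.leaf st445) (.leaf st446)))) (.node 2 (.node 1 (.leaf st447) (.leaf st448)) (.node 1 (.leaf st449) (.node 1 (.leaf st450) (.leaf st451)))))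

/-- A part of the table of representatives. -/
def hexRep46 : NumTree := .node 10 (.node 5 (.node 2 (.node 1 (.leaf st452) (.leaf st453)) (.node 1 (.leaf st454) (.node 1 (.leaf st455) (.leaf st456)))) (.node 2 (.node 1 (.leaf st457) (.leaf st458)) (.node 1 (.leaf st459) (.node 1 (.leaf st460) (.leaf st461))))) (.node 5 (.node 2 (.node 1 (.leaf st462) (.leaf st463)) (.node 1 (.leaf st464) (.node 1 (.leaf st465) (.leaf st466)))) (.node 2 (.node 1 (.leaf st467) (.leaf st468)) (.node 1 (.leaf st469) (.node 1 (.leaf st470) (.leaf st471)))))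

/-- A part of the table of representatives. -/
def hexRep44 : NumTree := .node 20 (hexRep45) (hexRep46)

/-- A part of the table of representatives. -/
def hexRep48 : NumTree := .node 10 (.node 5 (.node 2 (.node 1 (.leaf st472) (.leaf st473)) (.node 1 (.leaf st474) (.node 1 (.leaf st475) (.leaf st476)))) (.node 2 (.node 1 (.leaf st477) (.leaf st478)) (.node 1 (.leaf st479) (.node 1 (.leaf st480) (.leaf st481))))) (.node 5 (.node 2 (.node 1 (.leaf st482) (.leaf st483)) (.node 1 (.leaf st484) (.node 1 (.leaf st485) (.leaf st486)))) (.node 2 (.node 1 (.leaf st487) (.leaf st488)) (.node 1 (.leaf st489) (.node 1 (.leaf st490) (.leaf st491)))))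

/-- A part of the table of representatives. -/
def hexRep49 : NumTree := .node 10 (.node 5 (.node 2 (.node 1 (.leaf st492) (.leaf st493)) (.node 1 (.leaf st494) (.node 1 (.leaf st495) (.leaf st496)))) (.node 2 (.node 1 (.leaf st497) (.leaf st498)) (.node 1 (.leaf st499) (.node 1 (.leaf st500) (.leaf st501))))) (.node 5 (.node 2 (.node 1 (.leaf st502) (.leaf st503)) (.node 1 (.leaf st504) (.node 1 (.leaf st505) (.leaf st506)))) (.node 2 (.node 1 (.leaf st507) (.leaf st508)) (.node 1 (.leaf st509) (.node 1 (.leaf st510) (.leaf st511)))))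

/-- A part of the table of representatives. -/
def hexRep47 : NumTree := .node 20 (hexRep48) (hexRep49)

/-- A part of the table of representatives. -/
def hexRep43 : NumTree := .node 40 (hexRep44) (hexRep47)

/-- A part of the table of representatives. -/
def hexRep35 : NumTree := .node 80 (hexRep36) (hexRep43)

/-- A part of the table of representatives. -/
def hexRep53 : NumTree := .node 10 (.node 5 (.node 2 (.node 1 (.leaf st512) (.leaf st513)) (.node 1 (.leaf st514) (.node 1 (.leaf st515) (.leaf st516)))) (.node 2 (.node 1 (.leaf st517) (.leaf st518)) (.node 1 (.leaf st519) (.node 1 (.leaf st520) (.leaf st521))))) (.node 5 (.node 2 (.node 1 (.leaf st522) (.leaf st523)) (.node 1 (.leaf st524) (.node 1 (.leaf st525) (.leaf st526)))) (.node 2 (.node 1 (.leaf st527) (.leaf st528)) (.node 1 (.leaf st529) (.node 1 (.leaf st530) (.leaf st531)))))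

/-- A part of the table of representatives. -/
def hexRep54 : NumTree := .node 10 (.node 5 (.node 2 (.node 1 (.leaf st532) (.leaf st533)) (.node 1 (.leaf st534) (.node 1 (.leaf st535) (.leaf st536)))) (.node 2 (.node 1 (.leaf st537) (.leaf st538)) (.node 1 (.leaf st539) (.node 1 (.leaf st540) (.leaf st541))))) (.node 5 (.node 2 (.node 1 (.leaf st542) (.leaf st543)) (.node 1 (.leaf st544) (.node 1 (.leaf st545) (.leaf st546)))) (.node 2 (.node 1 (.leaf st547) (.leaf st548)) (.node 1 (.leaf st549) (.node 1 (.leaf st550) (.leaf st551)))))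

/-- A part of the table of representatives. -/
def hexRep52 : NumTree := .node 20 (hexRep53) (hexRep54)

/-- A part of the table of representatives. -/
def hexRep56 : NumTree := .node 10 (.node 5 (.node 2 (.node 1 (.leaf st552) (.leaf st553)) (.node 1 (.leaf st554) (.node 1 (.leaf st555) (.leaf st556)))) (.node 2 (.node 1 (.leaf st557) (.leaf st558)) (.node 1 (.leaf st559) (.node 1 (.leaf st560) (.leaf st561))))) (.node 5 (.node 2 (.node 1 (.leaf st562) (.leaf st563)) (.node 1 (.leaf st564) (.node 1 (.leaf st565) (.leaf st566)))) (.node 2 (.node 1 (.leaf st567) (.leaf st568)) (.node 1 (.leaf st569) (.node 1 (.leaf st570) (.leaf st571)))))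

/-- A part of the table of representatives. -/
def hexRep57 : NumTree := .node 10 (.node 5 (.node 2 (.node 1 (.leaf st572) (.leaf st573)) (.node 1 (.leaf st574) (.node 1 (.leaf st575) (.leaf st576)))) (.node 2 (.node 1 (.leaf st577) (.leaf st578)) (.node 1 (.leaf st579) (.node 1 (.leaf st9) (.leaf st580))))) (.node 5 (.node 2 (.node 1 (.leaf st581) (.leaf st582)) (.node 1 (.leaf st583) (.node 1 (.leaf st584) (.leaf st45)))) (.node 2 (.node 1 (.leaf st585) (.leaf st586)) (.node 1 (.leaf st587) (.node 1 (.leaf st588) (.leaf st589)))))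

/-- A part of the table of representatives. -/
def hexRep55 : NumTree := .node 20 (hexRep56) (hexRep57)

/-- A part of the table of representatives. -/
def hexRep51 : NumTree := .node 40 (hexRep52) (hexRep55)

/-- A part of the table of representatives. -/
def hexRep60 : NumTree := .node 10 (.node 5 (.node 2 (.node 1 (.leaf st590) (.leaf st591)) (.node 1 (.leaf st592) (.node 1 (.leaf st593) (.leaf st594)))) (.node 2 (.node 1 (.leaf st595) (.leaf st596)) (.node 1 (.leaf st597) (.node 1 (.leaf st598) (.leaf st599))))) (.node 5 (.node 2 (.node 1 (.leaf st600) (.leaf st601)) (.node 1 (.leaf st602) (.node 1 (.leaf st603) (.leaf st604)))) (.node 2 (.node 1 (.leaf st605) (.leaf st606)) (.node 1 (.leaf st607) (.node 1 (.leaf st608) (.leaf st609)))))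

/-- A part of the table of representatives. -/
def hexRep61 : NumTree := .node 10 (.node 5 (.node 2 (.node 1 (.leaf st610) (.leaf st611)) (.node 1 (.leaf st612) (.node 1 (.leaf st613) (.leaf st614)))) (.node 2 (.node 1 (.leaf st615) (.leaf st616)) (.node 1 (.leaf st617) (.node 1 (.leaf st618) (.leaf st619))))) (.node 5 (.node 2 (.node 1 (.leaf st620) (.leaf st621)) (.node 1 (.leaf st622) (.node 1 (.leaf st623) (.leaf st624)))) (.node 2 (.node 1 (.leaf st625) (.leaf st626)) (.node 1 (.leaf st627) (.node 1 (.leaf st628) (.leaf st629)))))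

/-- A part of the table of representatives. -/
def hexRep59 : NumTree := .node 20 (hexRep60) (hexRep61)

/-- A part of the table of representatives. -/
def hexRep63 : NumTree := .node 10 (.node 5 (.node 2 (.node 1 (.leaf st630) (.leaf st631)) (.node 1 (.leaf st632) (.node 1 (.leaf st633) (.leaf st634)))) (.node 2 (.node 1 (.leaf st635) (.leaf st636)) (.node 1 (.leaf st637) (.node 1 (.leaf st638) (.leaf st639))))) (.node 5 (.node 2 (.node 1 (.leaf st640) (.leaf st641)) (.node 1 (.leaf st642) (.node 1 (.leaf st643) (.leaf st644)))) (.node 2 (.node 1 (.leaf st645) (.leaf st646)) (.node 1 (.leaf st647) (.node 1 (.leaf st648) (.leaf st649)))))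

/-- A part of the table of representatives. -/
def hexRep64 : NumTree := .node 10 (.node 5 (.node 2 (.node 1 (.leaf st650) (.leaf st651)) (.node 1 (.leaf st652) (.node 1 (.leaf st653) (.leaf st654)))) (.node 2 (.node 1 (.leaf st655) (.leaf st656)) (.node 1 (.leaf st657) (.node 1 (.leaf st658) (.leaf st659))))) (.node 5 (.node 2 (.node 1 (.leaf st660) (.leaf st661)) (.node 1 (.leaf st662) (.node 1 (.leaf st663) (.leaf st664)))) (.node 2 (.node 1 (.leaf st665) (.leaf st666)) (.node 1 (.leaf st667) (.node 1 (.leaf st668) (.leaf st669)))))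

/-- A part of the table of representatives. -/
def hexRep62 : NumTree := .node 20 (hexRep63) (hexRep64)

/-- A part of the table of representatives. -/
def hexRep58 : NumTree := .node 40 (hexRep59) (hexRep62)

/-- A part of the table of representatives. -/
def hexRep50 : NumTree := .node 80 (hexRep51) (hexRep58)

/-- A part of the table of representatives. -/
def hexRep34 : NumTree := .node 160 (hexRep35) (hexRep50)

/-- A part of the table of representatives. -/
def hexRep2 : NumTree := .node 320 (hexRep3) (hexRep34)

/-- A part of the table of representatives. -/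
def hexRep70 : NumTree := .node 10 (.node 5 (.node 2 (.node 1 (.leaf st670) (.leaf st671)) (.node 1 (.leaf st672) (.node 1 (.leaf st673) (.leaf st674)))) (.node 2 (.node 1 (.leaf st675) (.leaf st676)) (.node 1 (.leaf st677) (.node 1 (.leaf st678) (.leaf st679))))) (.node 5 (.node 2 (.node 1 (.leaf st680) (.leaf st681)) (.node 1 (.leaf st682) (.node 1 (.leaf st683) (.leaf st684)))) (.node 2 (.node 1 (.leaf st685) (.leaf st686)) (.node 1 (.leaf st687) (.node 1 (.leaf st688) (.leaf st689)))))

/-- A part of the table of representatives. -/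
def hexRep71 : NumTree := .node 10 (.node 5 (.node 2 (.node 1 (.leaf st690) (.leaf st691)) (.node 1 (.leaf st692) (.node 1 (.leaf st693) (.leaf st694)))) (.node 2 (.node 1 (.leaf st695) (.leaf st696)) (.node 1 (.leaf st697) (.node 1 (.leaf st698) (.leaf st699))))) (.node 5 (.node 2 (.node 1 (.leaf st700) (.leaf st701)) (.node 1 (.leaf st702) (.node 1 (.leaf st703) (.leaf st704)))) (.node 2 (.node 1 (.leaf st705) (.leaf st706)) (.node 1 (.leaf st707) (.node 1 (.leaf st708) (.leaf st709)))))

/-- A part of the table of representatives. -/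
def hexRep69 : NumTree := .node 20 (hexRep70) (hexRep71)

/-- A part of the table of representatives. -/
def hexRep73 : NumTree := .node 10 (.node 5 (.node 2 (.node 1 (.leaf st710) (.leaf st711)) (.node 1 (.leaf st712) (.node 1 (.leaf st713) (.leaf st714)))) (.node 2 (.node 1 (.leaf st715) (.leaf st716)) (.node 1 (.leaf st717) (.node 1 (.leaf st718) (.leaf st719))))) (.node 5 (.node 2 (.node 1 (.leaf st720) (.leaf st721)) (.node 1 (.leaf st722) (.node 1 (.leaf st723) (.leaf st724)))) (.node 2 (.node 1 (.leaf st725) (.leaf st726)) (.node 1 (.leaf st727) (.node 1 (.leaf st728) (.leaf st729)))))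

/-- A part of the table of representatives. -/
def hexRep74 : NumTree := .node 10 (.node 5 (.node 2 (.node 1 (.leaf st730) (.leaf st731)) (.node 1 (.leaf st732) (.node 1 (.leaf st733) (.leaf st734)))) (.node 2 (.node 1 (.leaf st735) (.leaf st736)) (.node 1 (.leaf st737) (.node 1 (.leaf st738) (.leaf st739))))) (.node 5 (.node 2 (.node 1 (.leaf st740) (.leaf st741)) (.node 1 (.leaf st742) (.node 1 (.leaf st743) (.leaf st744)))) (.node 2 (.node 1 (.leaf st745) (.leaf st746)) (.node 1 (.leaf st747) (.node 1 (.leaf st748) (.leaf st749)))))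

/-- A part of the table of representatives. -/
def hexRep72 : NumTree := .node 20 (hexRep73) (hexRep74)

/-- A part of the table of representatives. -/
def hexRep68 : NumTree := .node 40 (hexRep69) (hexRep72)

/-- A part of the table of representatives. -/
def hexRep77 : NumTree := .node 10 (.node 5 (.node 2 (.node 1 (.leaf st750) (.leaf st751)) (.node 1 (.leaf st752) (.node 1 (.leaf st753) (.leaf st754)))) (.node 2 (.node 1 (.leaf st755) (.leaf st756)) (.node 1 (.leaf st757) (.node 1 (.leaf st758) (.leaf st759))))) (.node 5 (.node 2 (.node 1 (.leaf st760) (.leaf st761)) (.node 1 (.leaf st762) (.node 1 (.leaf st31) (.leaf st763)))) (.node 2 (.node 1 (.leaf st764) (.leaf st765)) (.node 1 (.leaf st766) (.node 1 (.leaf st767) (.leaf st768)))))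

/-- A part of the table of representatives. -/
def hexRep78 : NumTree := .node 10 (.node 5 (.node 2 (.node 1 (.leaf st769) (.leaf st770)) (.node 1 (.leaf st771) (.node 1 (.leaf st772) (.leaf st773)))) (.node 2 (.node 1 (.leaf st774) (.leaf st775)) (.node 1 (.leaf st776) (.node 1 (.leaf st777) (.leaf st778))))) (.node 5 (.node 2 (.node 1 (.leaf st779) (.leaf st780)) (.node 1 (.leaf st781) (.node 1 (.leaf st782) (.leaf st783)))) (.node 2 (.node 1 (.leaf st784) (.leaf st785)) (.node 1 (.leaf st786) (.node 1 (.leaf st787) (.leaf st788)))))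

/-- A part of the table of representatives. -/
def hexRep76 : NumTree := .node 20 (hexRep77) (hexRep78)

/-- A part of the table of representatives. -/
def hexRep80 : NumTree := .node 10 (.node 5 (.node 2 (.node 1 (.leaf st789) (.leaf st790)) (.node 1 (.leaf st791) (.node 1 (.leaf st792) (.leaf st793)))) (.node 2 (.node 1 (.leaf st794) (.leaf st795)) (.node 1 (.leaf st796) (.node 1 (.leaf st797) (.leaf st798))))) (.node 5 (.node 2 (.node 1 (.leaf st799) (.leaf st800)) (.node 1 (.leaf st801) (.node 1 (.leaf st802) (.leaf st803)))) (.node 2 (.node 1 (.leaf st804) (.leaf st805)) (.node 1 (.leaf st806) (.node 1 (.leaf st807) (.leaf st808)))))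

/-- A part of the table of representatives. -/
def hexRep81 : NumTree := .node 10 (.node 5 (.node 2 (.node 1 (.leaf st809) (.leaf st810)) (.node 1 (.leaf st811) (.node 1 (.leaf st812) (.leaf st813)))) (.node 2 (.node 1 (.leaf st814) (.leaf st815)) (.node 1 (.leaf st816) (.node 1 (.leaf st817) (.leaf st818))))) (.node 5 (.node 2 (.node 1 (.leaf st819) (.leaf st820)) (.node 1 (.leaf st821) (.node 1 (.leaf st822) (.leaf st823)))) (.node 2 (.node 1 (.leaf st824) (.leaf st825)) (.node 1 (.leaf st826) (.node 1 (.leaf st827) (.leaf st828)))))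

/-- A part of the table of representatives. -/
def hexRep79 : NumTree := .node 20 (hexRep80) (hexRep81)

/-- A part of the table of representatives. -/
def hexRep75 : NumTree := .node 40 (hexRep76) (hexRep79)

/-- A part of the table of representatives. -/
def hexRep67 : NumTree := .node 80 (hexRep68) (hexRep75)

/-- A part of the table of representatives. -/
def hexRep85 : NumTree := .node 10 (.node 5 (.node 2 (.node 1 (.leaf st829) (.leaf st830)) (.node 1 (.leaf st831) (.node 1 (.leaf st832) (.leaf st833)))) (.node 2 (.node 1 (.leaf st834) (.leaf st835)) (.node 1 (.leaf st836) (.node 1 (.leaf st837) (.leaf st838))))) (.node 5 (.node 2 (.node 1 (.leaf st839) (.leaf st840)) (.node 1 (.leaf st841) (.node 1 (.leaf st842) (.leaf st843)))) (.node 2 (.node 1 (.leaf st844) (.leaf st845)) (.node 1 (.leaf st846) (.node 1 (.leaf st847) (.leaf st848)))))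

/-- A part of the table of representatives. -/
def hexRep86 : NumTree := .node 10 (.node 5 (.node 2 (.node 1 (.leaf st849) (.leaf st850)) (.node 1 (.leaf st851) (.node 1 (.leaf st852) (.leaf st853)))) (.node 2 (.node 1 (.leaf st854) (.leaf st855)) (.node 1 (.leaf st856) (.node 1 (.leaf st857) (.leaf st858))))) (.node 5 (.node 2 (.node 1 (.leaf st859) (.leaf st860)) (.node 1 (.leaf st861) (.node 1 (.leaf st862) (.leaf st863)))) (.node 2 (.node 1 (.leaf st864) (.leaf st865)) (.node 1 (.leaf st866) (.node 1 (.leaf st867) (.leaf st868)))))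

/-- A part of the table of representatives. -/
def hexRep84 : NumTree := .node 20 (hexRep85) (hexRep86)

/-- A part of the table of representatives. -/
def hexRep88 : NumTree := .node 10 (.node 5 (.node 2 (.node 1 (.leaf st869) (.leaf st870)) (.node 1 (.leaf st871) (.node 1 (.leaf st872) (.leaf st873)))) (.node 2 (.node 1 (.leaf st874) (.leaf st875)) (.node 1 (.leaf st876) (.node 1 (.leaf st877) (.leaf st878))))) (.node 5 (.node 2 (.node 1 (.leaf st879) (.leaf st880)) (.node 1 (.leaf st881) (.node 1 (.leaf st882) (.leaf st883)))) (.node 2 (.node 1 (.leaf st884) (.leaf st885)) (.node 1 (.leaf st886) (.node 1 (.leaf st887) (.leaf st888)))))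

/-- A part of the table of representatives. -/
def hexRep89 : NumTree := .node 10 (.node 5 (.node 2 (.node 1 (.leaf st889) (.leaf st890)) (.node 1 (.leaf st891) (.node 1 (.leaf st892) (.leaf st893)))) (.node 2 (.node 1 (.leaf st894) (.leaf st895)) (.node 1 (.leaf st896) (.node 1 (.leaf st897) (.leaf st898))))) (.node 5 (.node 2 (.node 1 (.leaf st899) (.leaf st900)) (.node 1 (.leaf st901) (.node 1 (.leaf st902) (.leaf st903)))) (.node 2 (.node 1 (.leaf st904) (.leaf st905)) (.node 1 (.leaf st906) (.node 1 (.leaf st907) (.leaf st908)))))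

/-- A part of the table of representatives. -/
def hexRep87 : NumTree := .node 20 (hexRep88) (hexRep89)

/-- A part of the table of representatives. -/
def hexRep83 : NumTree := .node 40 (hexRep84) (hexRep87)

/-- A part of the table of representatives. -/
def hexRep92 : NumTree := .node 10 (.node 5 (.node 2 (.node 1 (.leaf st909) (.leaf st910)) (.node 1 (.leaf st911) (.node 1 (.leaf st912) (.leaf st913)))) (.node 2 (.node 1 (.leaf st914) (.leaf st915)) (.node 1 (.leaf st916) (.node 1 (.leaf st917) (.leaf st918))))) (.node 5 (.node 2 (.node 1 (.leaf st919) (.leaf st920)) (.node 1 (.leaf st921) (.node 1 (.leaf st922) (.leaf st923)))) (.node 2 (.node 1 (.leaf st924) (.leaf st925)) (.node 1 (.leaf st926) (.node 1 (.leaf st927) (.leaf st928)))))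

/-- A part of the table of representatives. -/
def hexRep93 : NumTree := .node 10 (.node 5 (.node 2 (.node 1 (.leaf st929) (.leaf st930)) (.node 1 (.leaf st931) (.node 1 (.leaf st932) (.leaf st933)))) (.node 2 (.node 1 (.leaf st934) (.leaf st935)) (.node 1 (.leaf st936) (.node 1 (.leaf st937) (.leaf st938))))) (.node 5 (.node 2 (.node 1 (.leaf st939) (.leaf st940)) (.node 1 (.leaf st941) (.node 1 (.leaf st942) (.leaf st943)))) (.node 2 (.node 1 (.leaf st944) (.leaf st945)) (.node 1 (.leaf st946) (.node 1 (.leaf st947) (.leaf st948)))))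

/-- A part of the table of representatives. -/
def hexRep91 : NumTree := .node 20 (hexRep92) (hexRep93)

/-- A part of the table of representatives. -/
def hexRep95 : NumTree := .node 10 (.node 5 (.node 2 (.node 1 (.leaf st949) (.leaf st950)) (.node 1 (.leaf st951) (.node 1 (.leaf st952) (.leaf st953)))) (.node 2 (.node 1 (.leaf st954) (.leaf st955)) (.node 1 (.leaf st956) (.node 1 (.leaf st957) (.leaf st958))))) (.node 5 (.node 2 (.node 1 (.leaf st959) (.leaf st960)) (.node 1 (.leaf st961) (.node 1 (.leaf st962) (.leaf st963)))) (.node 2 (.node 1 (.leaf st964) (.leaf st965)) (.node 1 (.leaf st966) (.node 1 (.leaf st967) (.leaf st968)))))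

/-- A part of the table of representatives. -/
def hexRep96 : NumTree := .node 10 (.node 5 (.node 2 (.node 1 (.leaf st969) (.leaf st970)) (.node 1 (.leaf st971) (.node 1 (.leaf st972) (.leaf st973)))) (.node 2 (.node 1 (.leaf st974) (.leaf st975)) (.node 1 (.leaf st976) (.node 1 (.leaf st977) (.leaf st978))))) (.node 5 (.node 2 (.node 1 (.leaf st979) (.leaf st980)) (.node 1 (.leaf st981) (.node 1 (.leaf st982) (.leaf st983)))) (.node 2 (.node 1 (.leaf st984) (.leaf st985)) (.node 1 (.leaf st986) (.node 1 (.leaf st987) (.leaf st988)))))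

/-- A part of the table of representatives. -/
def hexRep94 : NumTree := .node 20 (hexRep95) (hexRep96)

/-- A part of the table of representatives. -/
def hexRep90 : NumTree := .node 40 (hexRep91) (hexRep94)

/-- A part of the table of representatives. -/
def hexRep82 : NumTree := .node 80 (hexRep83) (hexRep90)

/-- A part of the table of representatives. -/
def hexRep66 : NumTree := .node 160 (hexRep67) (hexRep82)

/-- A part of the table of representatives. -/
def hexRep101 : NumTree := .node 10 (.node 5 (.node 2 (.node 1 (.leaf st989) (.leaf st990)) (.node 1 (.leaf st991) (.node 1 (.leaf st992) (.leaf st993)))) (.node 2 (.node 1 (.leaf st994) (.leaf st995)) (.node 1 (.leaf st996) (.node 1 (.leaf st997) (.leaf st998))))) (.node 5 (.node 2 (.node 1 (.leaf st999) (.leaf st1000)) (.node 1 (.leaf st1001) (.node 1 (.leaf st1002) (.leaf st1003)))) (.node 2 (.node 1 (.leaf st1004) (.leaf st1005)) (.node 1 (.leaf st1006) (.node 1 (.leaf st1007) (.leaf st1008)))))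

/-- A part of the table of representatives. -/
def hexRep102 : NumTree := .node 10 (.node 5 (.node 2 (.node 1 (.leaf st1009) (.leaf st1010)) (.node 1 (.leaf st1011) (.node 1 (.leaf st1012) (.leaf st1013)))) (.node 2 (.node 1 (.leaf st1014) (.leaf st1015)) (.node 1 (.leaf st1016) (.node 1 (.leaf st1017) (.leaf st1018))))) (.node 5 (.node 2 (.node 1 (.leaf st1019) (.leaf st1020)) (.node 1 (.leaf st1021) (.node 1 (.leaf st1022) (.leaf st1023)))) (.node 2 (.node 1 (.leaf st1024) (.leaf st1025)) (.node 1 (.leaf st1026) (.node 1 (.leaf st1027) (.leaf st1028)))))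

/-- A part of the table of representatives. -/
def hexRep100 : NumTree := .node 20 (hexRep101) (hexRep102)

/-- A part of the table of representatives. -/
def hexRep104 : NumTree := .node 10 (.node 5 (.node 2 (.node 1 (.leaf st1029) (.leaf st1030)) (.node 1 (.leaf st1031) (.node 1 (.leaf st1032) (.leaf st1033)))) (.node 2 (.node 1 (.leaf st1034) (.leaf st1035)) (.node 1 (.leaf st1036) (.node 1 (.leaf st1037) (.leaf st1038))))) (.node 5 (.node 2 (.node 1 (.leaf st1039) (.leaf st1040)) (.node 1 (.leaf st1041) (.node 1 (.leaf st1042) (.leaf st1043)))) (.node 2 (.node 1 (.leaf st1044) (.leaf st1045)) (.node 1 (.leaf st1046) (.node 1 (.leaf st1047) (.leaf st1048)))))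

/-- A part of the table of representatives. -/
def hexRep105 : NumTree := .node 10 (.node 5 (.node 2 (.node 1 (.leaf st1049) (.leaf st1050)) (.node 1 (.leaf st1051) (.node 1 (.leaf st1052) (.leaf st1053)))) (.node 2 (.node 1 (.leaf st1054) (.leaf st1055)) (.node 1 (.leaf st1056) (.node 1 (.leaf st1057) (.leaf st1058))))) (.node 5 (.node 2 (.node 1 (.leaf st1059) (.leaf st1060)) (.node 1 (.leaf st1061) (.node 1 (.leaf st1062) (.leaf st1063)))) (.node 2 (.node 1 (.leaf st1064) (.leaf st1065)) (.node 1 (.leaf st1066) (.node 1 (.leaf st1067) (.leaf st1068)))))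

/-- A part of the table of representatives. -/
def hexRep103 : NumTree := .node 20 (hexRep104) (hexRep105)

/-- A part of the table of representatives. -/
def hexRep99 : NumTree := .node 40 (hexRep100) (hexRep103)

/-- A part of the table of representatives. -/
def hexRep108 : NumTree := .node 10 (.node 5 (.node 2 (.node 1 (.leaf st1069) (.leaf st1070)) (.node 1 (.leaf st1071) (.node 1 (.leaf st1072) (.leaf st1073)))) (.node 2 (.node 1 (.leaf st1074) (.leaf st1075)) (.node 1 (.leaf st1076) (.node 1 (.leaf st1077) (.leaf st1078))))) (.node 5 (.node 2 (.node 1 (.leaf st1079) (.leaf st1080)) (.node 1 (.leaf st1081) (.node 1 (.leaf st1082) (.leaf st1083)))) (.node 2 (.node 1 (.leaf st40) (.leaf st1084)) (.node 1 (.leaf st1085) (.node 1 (.leaf st1086) (.leaf st1087)))))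

/-- A part of the table of representatives. -/
def hexRep109 : NumTree := .node 10 (.node 5 (.node 2 (.node 1 (.leaf st1088) (.leaf st1089)) (.node 1 (.leaf st1090) (.node 1 (.leaf st1091) (.leaf st1092)))) (.node 2 (.node 1 (.leaf st1093) (.leaf st1094)) (.node 1 (.leaf st1095) (.node 1 (.leaf st1096) (.leaf st1097))))) (.node 5 (.node 2 (.node 1 (.leaf st1098) (.leaf st1099)) (.node 1 (.leaf st1100) (.node 1 (.leaf st1101) (.leaf st1102)))) (.node 2 (.node 1 (.leaf st1103) (.leaf st1104)) (.node 1 (.leaf st1105) (.node 1 (.leaf st1106) (.leaf st1107)))))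

/-- A part of the table of representatives. -/
def hexRep107 : NumTree := .node 20 (hexRep108) (hexRep109)

/-- A part of the table of representatives. -/
def hexRep111 : NumTree := .node 10 (.node 5 (.node 2 (.node 1 (.leaf st1108) (.leaf st1109)) (.node 1 (.leaf st1110) (.node 1 (.leaf st1111) (.leaf st1112)))) (.node 2 (.node 1 (.leaf st1113) (.leaf st1114)) (.node 1 (.leaf st1115) (.node 1 (.leaf st1116) (.leaf st1117))))) (.node 5 (.node 2 (.node 1 (.leaf st1118) (.leaf st1119)) (.node 1 (.leaf st1120) (.node 1 (.leaf st1121) (.leaf st1122)))) (.node 2 (.node 1 (.leaf st1123) (.leaf st1124)) (.node 1 (.leaf st1125) (.node 1 (.leaf st1126) (.leaf st1127)))))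

/-- A part of the table of representatives. -/
def hexRep112 : NumTree := .node 10 (.node 5 (.node 2 (.node 1 (.leaf st1128) (.leaf st1129)) (.node 1 (.leaf st1130) (.node 1 (.leaf st1131) (.leaf st1132)))) (.node 2 (.node 1 (.leaf st1133) (.leaf st1134)) (.node 1 (.leaf st1135) (.node 1 (.leaf st1136) (.leaf st1137))))) (.node 5 (.node 2 (.node 1 (.leaf st1138) (.leaf st1139)) (.node 1 (.leaf st1140) (.node 1 (.leaf st1141) (.leaf st1142)))) (.node 2 (.node 1 (.leaf st1143) (.leaf st1144)) (.node 1 (.leaf st1145) (.node 1 (.leaf st1146) (.leaf st1147)))))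

/-- A part of the table of representatives. -/
def hexRep110 : NumTree := .node 20 (hexRep111) (hexRep112)

/-- A part of the table of representatives. -/
def hexRep106 : NumTree := .node 40 (hexRep107) (hexRep110)

/-- A part of the table of representatives. -/
def hexRep98 : NumTree := .node 80 (hexRep99) (hexRep106)

/-- A part of the table of representatives. -/
def hexRep116 : NumTree := .node 10 (.node 5 (.node 2 (.node 1 (.leaf st1148) (.leaf st1149)) (.node 1 (.leaf st1150) (.node 1 (.leaf st1151) (.leaf st1152)))) (.node 2 (.node 1 (.leaf st1153) (.leaf st1154)) (.node 1 (.leaf st1155) (.node 1 (.leaf st1156) (.leaf st1157))))) (.node 5 (.node 2 (.node 1 (.leaf st1158) (.leaf st1159)) (.node 1 (.leaf st1160) (.node 1 (.leaf st1161) (.leaf st1162)))) (.node 2 (.node 1 (.leaf st1163) (.leaf st1164)) (.node 1 (.leaf st1165) (.node 1 (.leaf st1166) (.leaf st1167)))))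

/-- A part of the table of representatives. -/
def hexRep117 : NumTree := .node 10 (.node 5 (.node 2 (.node 1 (.leaf st1168) (.leaf st1169)) (.node 1 (.leaf st1170) (.node 1 (.leaf st1171) (.leaf st1172)))) (.node 2 (.node 1 (.leaf st1173) (.leaf st1174)) (.node 1 (.leaf st1175) (.node 1 (.leaf st1176) (.leaf st1177))))) (.node 5 (.node 2 (.node 1 (.leaf st1178) (.leaf st1179)) (.node 1 (.leaf st1180) (.node 1 (.leaf st1181) (.leaf st19)))) (.node 2 (.node 1 (.leaf st1182) (.leaf st1183)) (.node 1 (.leaf st1184) (.node 1 (.leaf st1185) (.leaf st1186)))))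

/-- A part of the table of representatives. -/
def hexRep115 : NumTree := .node 20 (hexRep116) (hexRep117)

/-- A part of the table of representatives. -/
def hexRep119 : NumTree := .node 10 (.node 5 (.node 2 (.node 1 (.leaf st1187) (.leaf st1188)) (.node 1 (.leaf st1189) (.node 1 (.leaf st1190) (.leaf st1191)))) (.node 2 (.node 1 (.leaf st1192) (.leaf st1193)) (.node 1 (.leaf st1194) (.node 1 (.leaf st1195) (.leaf st1196))))) (.node 5 (.node 2 (.node 1 (.leaf st1197) (.leaf st1198)) (.node 1 (.leaf st1199) (.node 1 (.leaf st1200) (.leaf st1201)))) (.node 2 (.node 1 (.leaf st1202) (.leaf st1203)) (.node 1 (.leaf st1204) (.node 1 (.leaf st1205) (.leaf st1206)))))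

/-- A part of the table of representatives. -/
def hexRep120 : NumTree := .node 10 (.node 5 (.node 2 (.node 1 (.leaf st1207) (.leaf st1208)) (.node 1 (.leaf st1209) (.node 1 (.leaf st1210) (.leaf st1211)))) (.node 2 (.node 1 (.leaf st1212) (.leaf st1213)) (.node 1 (.leaf st1214) (.node 1 (.leaf st1215) (.leaf st1216))))) (.node 5 (.node 2 (.node 1 (.leaf st1217) (.leaf st1218)) (.node 1 (.leaf st1219) (.node 1 (.leaf st1220) (.leaf st1221)))) (.node 2 (.node 1 (.leaf st1222) (.leaf st1223)) (.node 1 (.leaf st1224) (.node 1 (.leaf st1225) (.leaf st1226)))))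

/-- A part of the table of representatives. -/
def hexRep118 : NumTree := .node 20 (hexRep119) (hexRep120)

/-- A part of the table of representatives. -/
def hexRep114 : NumTree := .node 40 (hexRep115) (hexRep118)

/-- A part of the table of representatives. -/
def hexRep123 : NumTree := .node 10 (.node 5 (.node 2 (.node 1 (.leaf st1227) (.leaf st1228)) (.node 1 (.leaf st1229) (.node 1 (.leaf st1230) (.leaf st1231)))) (.node 2 (.node 1 (.leaf st1232) (.leaf st1233)) (.node 1 (.leaf st1234) (.node 1 (.leaf st1235) (.leaf st1236))))) (.node 5 (.node 2 (.node 1 (.leaf st1237) (.leaf st1238)) (.node 1 (.leaf st1239) (.node 1 (.leaf st1240) (.leaf st1241)))) (.node 2 (.node 1 (.leaf st1242) (.leaf st1243)) (.node 1 (.leaf st1244) (.node 1 (.leaf st1245) (.leaf st1246)))))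

/-- A part of the table of representatives. -/
def hexRep124 : NumTree := .node 10 (.node 5 (.node 2 (.node 1 (.leaf st1247) (.leaf st1248)) (.node 1 (.leaf st1249) (.node 1 (.leaf st1250) (.leaf st1251)))) (.node 2 (.node 1 (.leaf st1252) (.leaf st1253)) (.node 1 (.leaf st1254) (.node 1 (.leaf st1255) (.leaf st1256))))) (.node 5 (.node 2 (.node 1 (.leaf st1257) (.leaf st1258)) (.node 1 (.leaf st1259) (.node 1 (.leaf st1260) (.leaf st1261)))) (.node 2 (.node 1 (.leaf st1262) (.leaf st1263)) (.node 1 (.leaf st1264) (.node 1 (.leaf st1265) (.leaf st1266)))))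

/-- A part of the table of representatives. -/
def hexRep122 : NumTree := .node 20 (hexRep123) (hexRep124)

/-- A part of the table of representatives. -/
def hexRep126 : NumTree := .node 10 (.node 5 (.node 2 (.node 1 (.leaf st1267) (.leaf st1268)) (.node 1 (.leaf st1269) (.node 1 (.leaf st1270) (.leaf st1271)))) (.node 2 (.node 1 (.leaf st1272) (.leaf st1273)) (.node 1 (.leaf st1274) (.node 1 (.leaf st1275) (.leaf st1276))))) (.node 5 (.node 2 (.node 1 (.leaf st1277) (.leaf st1278)) (.node 1 (.leaf st1279) (.node 1 (.leaf st1280) (.leaf st1281)))) (.node 2 (.node 1 (.leaf st1282) (.leaf st1283)) (.node 1 (.leaf st1284) (.node 1 (.leaf st1285) (.leaf st1286)))))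

/-- A part of the table of representatives. -/
def hexRep127 : NumTree := .node 10 (.node 5 (.node 2 (.node 1 (.leaf st1287) (.leaf st1288)) (.node 1 (.leaf st1289) (.node 1 (.leaf st1290) (.leaf st1291)))) (.node 2 (.node 1 (.leaf st1292) (.leaf st1293)) (.node 1 (.leaf st1294) (.node 1 (.leaf st1295) (.leaf st1296))))) (.node 5 (.node 2 (.node 1 (.leaf st1297) (.leaf st1298)) (.node 1 (.leaf st1299) (.node 1 (.leaf st1300) (.leaf st1301)))) (.node 2 (.node 1 (.leaf st1302) (.leaf st1303)) (.node 1 (.leaf st1304) (.node 1 (.leaf st1305) (.leaf st1306)))))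

/-- A part of the table of representatives. -/
def hexRep125 : NumTree := .node 20 (hexRep126) (hexRep127)

/-- A part of the table of representatives. -/
def hexRep121 : NumTree := .node 40 (hexRep122) (hexRep125)

/-- A part of the table of representatives. -/
def hexRep113 : NumTree := .node 80 (hexRep114) (hexRep121)

/-- A part of the table of representatives. -/
def hexRep97 : NumTree := .node 160 (hexRep98) (hexRep113)

/-- A part of the table of representatives. -/
def hexRep65 : NumTree := .node 320 (hexRep66) (hexRep97)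

/-- A part of the table of representatives. -/
def hexRep1 : NumTree := .node 640 (hexRep2) (hexRep65)

/-- A part of the table of representatives. -/
def hexRep134 : NumTree := .node 10 (.node 5 (.node 2 (.node 1 (.leaf st1307) (.leaf st1308)) (.node 1 (.leaf st1309) (.node 1 (.leaf st1310) (.leaf st1311)))) (.node 2 (.node 1 (.leaf st1312) (.leaf st1313)) (.node 1 (.leaf st1314) (.node 1 (.leaf st1315) (.leaf st1316))))) (.node 5 (.node 2 (.node 1 (.leaf st1317) (.leaf st1318)) (.node 1 (.leaf st1319) (.node 1 (.leaf st1320) (.leaf st1321)))) (.node 2 (.node 1 (.leaf st1322) (.leaf st1323)) (.node 1 (.leaf st1324) (.node 1 (.leaf st1325) (.leaf st1326)))))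

/-- A part of the table of representatives. -/
def hexRep135 : NumTree := .node 10 (.node 5 (.node 2 (.node 1 (.leaf st1327) (.leaf st1328)) (.node 1 (.leaf st1329) (.node 1 (.leaf st1330) (.leaf st1331)))) (.node 2 (.node 1 (.leaf st1332) (.leaf st1333)) (.node 1 (.leaf st1334) (.node 1 (.leaf st1335) (.leaf st1336))))) (.node 5 (.node 2 (.node 1 (.leaf st1337) (.leaf st1338)) (.node 1 (.leaf st1339) (.node 1 (.leaf st1340) (.leaf st1341)))) (.node 2 (.node 1 (.leaf st1342) (.leaf st1343)) (.node 1 (.leaf st1344) (.node 1 (.leaf st1345) (.leaf st1346)))))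

/-- A part of the table of representatives. -/
def hexRep133 : NumTree := .node 20 (hexRep134) (hexRep135)

/-- A part of the table of representatives. -/
def hexRep137 : NumTree := .node 10 (.node 5 (.node 2 (.node 1 (.leaf st1347) (.leaf st1348)) (.node 1 (.leaf st1349) (.node 1 (.leaf st1350) (.leaf st1351)))) (.node 2 (.node 1 (.leaf st1352) (.leaf st1353)) (.node 1 (.leaf st1354) (.node 1 (.leaf st1355) (.leaf st1356))))) (.node 5 (.node 2 (.node 1 (.leaf st10) (.leaf st1357)) (.node 1 (.leaf st1358) (.node 1 (.leaf st1359) (.leaf st1360)))) (.node 2 (.node 1 (.leaf st1361) (.leaf st1362)) (.node 1 (.leaf st1363) (.node 1 (.leaf st1364) (.leaf st1365)))))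

/-- A part of the table of representatives. -/
def hexRep138 : NumTree := .node 10 (.node 5 (.node 2 (.node 1 (.leaf st1366) (.leaf st1367)) (.node 1 (.leaf st1368) (.node 1 (.leaf st1369) (.leaf st1370)))) (.node 2 (.node 1 (.leaf st1371) (.leaf st1372)) (.node 1 (.leaf st1373) (.node 1 (.leaf st1374) (.leaf st1375))))) (.node 5 (.node 2 (.node 1 (.leaf st1376) (.leaf st1377)) (.node 1 (.leaf st1378) (.node 1 (.leaf st1379) (.leaf st1380)))) (.node 2 (.node 1 (.leaf st1381) (.leaf st1382)) (.node 1 (.leaf st1383) (.node 1 (.leaf st1384) (.leaf st1385)))))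

/-- A part of the table of representatives. -/
def hexRep136 : NumTree := .node 20 (hexRep137) (hexRep138)

/-- A part of the table of representatives. -/
def hexRep132 : NumTree := .node 40 (hexRep133) (hexRep136)

/-- A part of the table of representatives. -/
def hexRep141 : NumTree := .node 10 (.node 5 (.node 2 (.node 1 (.leaf st1386) (.leaf st1387)) (.node 1 (.leaf st1388) (.node 1 (.leaf st1389) (.leaf st1390)))) (.node 2 (.node 1 (.leaf st1391) (.leaf st1392)) (.node 1 (.leaf st1393) (.node 1 (.leaf st1394) (.leaf st1395))))) (.node 5 (.node 2 (.node 1 (.leaf st1396) (.leaf st1397)) (.node 1 (.leaf st1398) (.node 1 (.leaf st1399) (.leaf st1400)))) (.node 2 (.node 1 (.leaf st1401) (.leaf st1402)) (.node 1 (.leaf st1403) (.node 1 (.leaf st1404) (.leaf st1405)))))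

/-- A part of the table of representatives. -/
def hexRep142 : NumTree := .node 10 (.node 5 (.node 2 (.node 1 (.leaf st1406) (.leaf st1407)) (.node 1 (.leaf st1408) (.node 1 (.leaf st1409) (.leaf st1410)))) (.node 2 (.node 1 (.leaf st1411) (.leaf st1412)) (.node 1 (.leaf st1413) (.node 1 (.leaf st1414) (.leaf st1415))))) (.node 5 (.node 2 (.node 1 (.leaf st1416) (.leaf st1417)) (.node 1 (.leaf st1418) (.node 1 (.leaf st1419) (.leaf st1420)))) (.node 2 (.node 1 (.leaf st1421) (.leaf st1422)) (.node 1 (.leaf st1423) (.node 1 (.leaf st1424) (.leaf st1425)))))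

/-- A part of the table of representatives. -/
def hexRep140 : NumTree := .node 20 (hexRep141) (hexRep142)

/-- A part of the table of representatives. -/
def hexRep144 : NumTree := .node 10 (.node 5 (.node 2 (.node 1 (.leaf st1426) (.leaf st1427)) (.node 1 (.leaf st1428) (.node 1 (.leaf st1429) (.leaf st1430)))) (.node 2 (.node 1 (.leaf st1431) (.leaf st1432)) (.node 1 (.leaf st1433) (.node 1 (.leaf st1434) (.leaf st1435))))) (.node 5 (.node 2 (.node 1 (.leaf st1436) (.leaf st1437)) (.node 1 (.leaf st1438) (.node 1 (.leaf st1439) (.leaf st1440)))) (.node 2 (.node 1 (.leaf st1441) (.leaf st1442)) (.node 1 (.leaf st1443) (.node 1 (.leaf st1444) (.leaf st1445)))))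

/-- A part of the table of representatives. -/
def hexRep145 : NumTree := .node 10 (.node 5 (.node 2 (.node 1 (.leaf st1446) (.leaf st1447)) (.node 1 (.leaf st1448) (.node 1 (.leaf st1449) (.leaf st1450)))) (.node 2 (.node 1 (.leaf st1451) (.leaf st1452)) (.node 1 (.leaf st1453) (.node 1 (.leaf st1454) (.leaf st1455))))) (.node 5 (.node 2 (.node 1 (.leaf st1456) (.leaf st1457)) (.node 1 (.leaf st1458) (.node 1 (.leaf st1459) (.leaf st1460)))) (.node 2 (.node 1 (.leaf st1461) (.leaf st1462)) (.node 1 (.leaf st1463) (.node 1 (.leaf st1464) (.leaf st1465)))))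

/-- A part of the table of representatives. -/
def hexRep143 : NumTree := .node 20 (hexRep144) (hexRep145)

/-- A part of the table of representatives. -/
def hexRep139 : NumTree := .node 40 (hexRep140) (hexRep143)

/-- A part of the table of representatives. -/
def hexRep131 : NumTree := .node 80 (hexRep132) (hexRep139)

/-- A part of the table of representatives. -/
def hexRep149 : NumTree := .node 10 (.node 5 (.node 2 (.node 1 (.leaf st1466) (.leaf st1467)) (.node 1 (.leaf st1468) (.node 1 (.leaf st1469) (.leaf st1470)))) (.node 2 (.node 1 (.leaf st1471) (.leaf st1472)) (.node 1 (.leaf st1473) (.node 1 (.leaf st1474) (.leaf st1475))))) (.node 5 (.node 2 (.node 1 (.leaf st1476) (.leaf st1477)) (.node 1 (.leaf st1478) (.node 1 (.leaf st1479) (.leaf st1480)))) (.node 2 (.node 1 (.leaf st1481) (.leaf st1482)) (.node 1 (.leaf st1483) (.node 1 (.leaf st1484) (.leaf st1485)))))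

/-- A part of the table of representatives. -/
def hexRep150 : NumTree := .node 10 (.node 5 (.node 2 (.node 1 (.leaf st1486) (.leaf st1487)) (.node 1 (.leaf st1488) (.node 1 (.leaf st1489) (.leaf st1490)))) (.node 2 (.node 1 (.leaf st1491) (.leaf st1492)) (.node 1 (.leaf st1493) (.node 1 (.leaf st1494) (.leaf st1495))))) (.node 5 (.node 2 (.node 1 (.leaf st1496) (.leaf st1497)) (.node 1 (.leaf st1498) (.node 1 (.leaf st1499) (.leaf st1500)))) (.node 2 (.node 1 (.leaf st1501) (.leaf st1502)) (.node 1 (.leaf st1503) (.node 1 (.leaf st1504) (.leaf st1505)))))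

/-- A part of the table of representatives. -/
def hexRep148 : NumTree := .node 20 (hexRep149) (hexRep150)

/-- A part of the table of representatives. -/
def hexRep152 : NumTree := .node 10 (.node 5 (.node 2 (.node 1 (.leaf st1506) (.leaf st1507)) (.node 1 (.leaf st1508) (.node 1 (.leaf st1509) (.leaf st1510)))) (.node 2 (.node 1 (.leaf st1511) (.leaf st1512)) (.node 1 (.leaf st1513) (.node 1 (.leaf st1514) (.leaf st1515))))) (.node 5 (.node 2 (.node 1 (.leaf st1516) (.leaf st1517)) (.node 1 (.leaf st1518) (.node 1 (.leaf st1519) (.leaf st1520)))) (.node 2 (.node 1 (.leaf st1521) (.leaf st1522)) (.node 1 (.leaf st1523) (.node 1 (.leaf st1524) (.leaf st1525)))))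

/-- A part of the table of representatives. -/
def hexRep153 : NumTree := .node 10 (.node 5 (.node 2 (.node 1 (.leaf st1526) (.leaf st1527)) (.node 1 (.leaf st1528) (.node 1 (.leaf st1529) (.leaf st1530)))) (.node 2 (.node 1 (.leaf st1531) (.leaf st1532)) (.node 1 (.leaf st1533) (.node 1 (.leaf st1534) (.leaf st1535))))) (.node 5 (.node 2 (.node 1 (.leaf st1536) (.leaf st1537)) (.node 1 (.leaf st1538) (.node 1 (.leaf st1539) (.leaf st1540)))) (.node 2 (.node 1 (.leaf st1541) (.leaf st1542)) (.node 1 (.leaf st1543) (.node 1 (.leaf st1544) (.leaf st1545)))))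

/-- A part of the table of representatives. -/
def hexRep151 : NumTree := .node 20 (hexRep152) (hexRep153)

/-- A part of the table of representatives. -/
def hexRep147 : NumTree := .node 40 (hexRep148) (hexRep151)

/-- A part of the table of representatives. -/
def hexRep156 : NumTree := .node 10 (.node 5 (.node 2 (.node 1 (.leaf st1546) (.leaf st1547)) (.node 1 (.leaf st1548) (.node 1 (.leaf st1549) (.leaf st1550)))) (.node 2 (.node 1 (.leaf st1551) (.leaf st1552)) (.node 1 (.leaf st1553) (.node 1 (.leaf st1554) (.leaf st1555))))) (.node 5 (.node 2 (.node 1 (.leaf st1556) (.leaf st1557)) (.node 1 (.leaf st1558) (.node 1 (.leaf st1559) (.leaf st1560)))) (.node 2 (.node 1 (.leaf st1561) (.leaf st1562)) (.node 1 (.leaf st1563) (.node 1 (.leaf st1564) (.leaf st1565)))))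

/-- A part of the table of representatives. -/
def hexRep157 : NumTree := .node 10 (.node 5 (.node 2 (.node 1 (.leaf st1566) (.leaf st1567)) (.node 1 (.leaf st1568) (.node 1 (.leaf st1569) (.leaf st1570)))) (.node 2 (.node 1 (.leaf st1571) (.leaf st1572)) (.node 1 (.leaf st1573) (.node 1 (.leaf st1574) (.leaf st1575))))) (.node 5 (.node 2 (.node 1 (.leaf st1576) (.leaf st1577)) (.node 1 (.leaf st1578) (.node 1 (.leaf st1579) (.leaf st1580)))) (.node 2 (.node 1 (.leaf st1581) (.leaf st1582)) (.node 1 (.leaf st1583) (.node 1 (.leaf st1584) (.leaf st1585)))))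

/-- A part of the table of representatives. -/
def hexRep155 : NumTree := .node 20 (hexRep156) (hexRep157)

/-- A part of the table of representatives. -/
def hexRep159 : NumTree := .node 10 (.node 5 (.node 2 (.node 1 (.leaf st1586) (.leaf st1587)) (.node 1 (.leaf st1588) (.node 1 (.leaf st1589) (.leaf st1590)))) (.node 2 (.node 1 (.leaf st1591) (.leaf st1592)) (.node 1 (.leaf st1593) (.node 1 (.leaf st1594) (.leaf st1595))))) (.node 5 (.node 2 (.node 1 (.leaf st1596) (.leaf st1597)) (.node 1 (.leaf st1598) (.node 1 (.leaf st1599) (.leaf st1600)))) (.node 2 (.node 1 (.leaf st1601) (.leaf st1602)) (.node 1 (.leaf st1603) (.node 1 (.leaf st1604) (.leaf st1605)))))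

/-- A part of the table of representatives. -/
def hexRep160 : NumTree := .node 10 (.node 5 (.node 2 (.node 1 (.leaf st1606) (.leaf st1607)) (.node 1 (.leaf st1608) (.node 1 (.leaf st1609) (.leaf st1610)))) (.node 2 (.node 1 (.leaf st1611) (.leaf st1612)) (.node 1 (.leaf st1613) (.node 1 (.leaf st1614) (.leaf st1615))))) (.node 5 (.node 2 (.node 1 (.leaf st1616) (.leaf st1617)) (.node 1 (.leaf st1618) (.node 1 (.leaf st1619) (.leaf st1620)))) (.node 2 (.node 1 (.leaf st1621) (.leaf st1622)) (.node 1 (.leaf st1623) (.node 1 (.leaf st1624) (.leaf st1625)))))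

/-- A part of the table of representatives. -/
def hexRep158 : NumTree := .node 20 (hexRep159) (hexRep160)

/-- A part of the table of representatives. -/
def hexRep154 : NumTree := .node 40 (hexRep155) (hexRep158)

/-- A part of the table of representatives. -/
def hexRep146 : NumTree := .node 80 (hexRep147) (hexRep154)

/-- A part of the table of representatives. -/
def hexRep130 : NumTree := .node 160 (hexRep131) (hexRep146)

/-- A part of the table of representatives. -/
def hexRep165 : NumTree := .node 10 (.node 5 (.node 2 (.node 1 (.leaf st1626) (.leaf st1627)) (.node 1 (.leaf st1628) (.node 1 (.leaf st1629) (.leaf st1630)))) (.node 2 (.node 1 (.leaf st1631) (.leaf st1632)) (.node 1 (.leaf st1633) (.node 1 (.leaf st1634) (.leaf st1635))))) (.node 5 (.node 2 (.node 1 (.leaf st1636) (.leaf st1637)) (.node 1 (.leaf st1638) (.node 1 (.leaf st1639) (.leaf st1640)))) (.node 2 (.node 1 (.leaf st1641) (.leaf st1642)) (.node 1 (.leaf st1643) (.node 1 (.leaf st1644) (.leaf st1645)))))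

/-- A part of the table of representatives. -/
def hexRep166 : NumTree := .node 10 (.node 5 (.node 2 (.node 1 (.leaf st1646) (.leaf st1647)) (.node 1 (.leaf st1648) (.node 1 (.leaf st1649) (.leaf st1650)))) (.node 2 (.node 1 (.leaf st1651) (.leaf st1652)) (.node 1 (.leaf st1653) (.node 1 (.leaf st1654) (.leaf st1655))))) (.node 5 (.node 2 (.node 1 (.leaf st1656) (.leaf st1657)) (.node 1 (.leaf st1658) (.node 1 (.leaf st1659) (.leaf st1660)))) (.node 2 (.node 1 (.leaf st1661) (.leaf st1662)) (.node 1 (.leaf st1663) (.node 1 (.leaf st1664) (.leaf st1665)))))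

/-- A part of the table of representatives. -/
def hexRep164 : NumTree := .node 20 (hexRep165) (hexRep166)

/-- A part of the table of representatives. -/
def hexRep168 : NumTree := .node 10 (.node 5 (.node 2 (.node 1 (.leaf st1666) (.leaf st1667)) (.node 1 (.leaf st1668) (.node 1 (.leaf st1669) (.leaf st1670)))) (.node 2 (.node 1 (.leaf st1671) (.leaf st1672)) (.node 1 (.leaf st1673) (.node 1 (.leaf st1674) (.leaf st1675))))) (.node 5 (.node 2 (.node 1 (.leaf st1676) (.leaf st1677)) (.node 1 (.leaf st1678) (.node 1 (.leaf st1679) (.leaf st1680)))) (.node 2 (.node 1 (.leaf st1681) (.leaf st1682)) (.node 1 (.leaf st1683) (.node 1 (.leaf st1684) (.leaf st1685)))))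

/-- A part of the table of representatives. -/
def hexRep169 : NumTree := .node 10 (.node 5 (.node 2 (.node 1 (.leaf st1686) (.leaf st1687)) (.node 1 (.leaf st1688) (.node 1 (.leaf st1689) (.leaf st1690)))) (.node 2 (.node 1 (.leaf st1691) (.leaf st1692)) (.node 1 (.leaf st1693) (.node 1 (.leaf st1694) (.leaf st1695))))) (.node 5 (.node 2 (.node 1 (.leaf st1696) (.leaf st1697)) (.node 1 (.leaf st1698) (.node 1 (.leaf st1699) (.leaf st1700)))) (.node 2 (.node 1 (.leaf st1701) (.leaf st1702)) (.node 1 (.leaf st1703) (.node 1 (.leaf st1704) (.leaf st1705)))))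

/-- A part of the table of representatives. -/
def hexRep167 : NumTree := .node 20 (hexRep168) (hexRep169)

/-- A part of the table of representatives. -/
def hexRep163 : NumTree := .node 40 (hexRep164) (hexRep167)

/-- A part of the table of representatives. -/
def hexRep172 : NumTree := .node 10 (.node 5 (.node 2 (.node 1 (.leaf st1706) (.leaf st1707)) (.node 1 (.leaf st1708) (.node 1 (.leaf st1709) (.leaf st1710)))) (.node 2 (.node 1 (.leaf st1711) (.leaf st1712)) (.node 1 (.leaf st1713) (.node 1 (.leaf st1714) (.leaf st1715))))) (.node 5 (.node 2 (.node 1 (.leaf st1716) (.leaf st1717)) (.node 1 (.leaf st1718) (.node 1 (.leaf st1719) (.leaf st1720)))) (.node 2 (.node 1 (.leaf st1721) (.leaf st1722)) (.node 1 (.leaf st1723) (.node 1 (.leaf st1724) (.leaf st1725)))))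

/-- A part of the table of representatives. -/
def hexRep173 : NumTree := .node 10 (.node 5 (.node 2 (.node 1 (.leaf st1726) (.leaf st1727)) (.node 1 (.leaf st1728) (.node 1 (.leaf st1729) (.leaf st1730)))) (.node 2 (.node 1 (.leaf st1731) (.leaf st1732)) (.node 1 (.leaf st1733) (.node 1 (.leaf st1734) (.leaf st1735))))) (.node 5 (.node 2 (.node 1 (.leaf st1736) (.leaf st1737)) (.node 1 (.leaf st1738) (.node 1 (.leaf st1739) (.leaf st1740)))) (.node 2 (.node 1 (.leaf st1741) (.leaf st1742)) (.node 1 (.leaf st1743) (.node 1 (.leaf st1744) (.leaf st1745)))))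

/-- A part of the table of representatives. -/
def hexRep171 : NumTree := .node 20 (hexRep172) (hexRep173)

/-- A part of the table of representatives. -/
def hexRep175 : NumTree := .node 10 (.node 5 (.node 2 (.node 1 (.leaf st1746) (.leaf st1747)) (.node 1 (.leaf st1748) (.node 1 (.leaf st1749) (.leaf st1750)))) (.node 2 (.node 1 (.leaf st1751) (.leaf st1752)) (.node 1 (.leaf st1753) (.node 1 (.leaf st1754) (.leaf st1755))))) (.node 5 (.node 2 (.node 1 (.leaf st1756) (.leaf st1757)) (.node 1 (.leaf st1758) (.node 1 (.leaf st1759) (.leaf st1760)))) (.node 2 (.node 1 (.leaf st1761) (.leaf st1762)) (.node 1 (.leaf st1763) (.node 1 (.leaf st1764) (.leaf st1765)))))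

/-- A part of the table of representatives. -/
def hexRep176 : NumTree := .node 10 (.node 5 (.node 2 (.node 1 (.leaf st1766) (.leaf st1767)) (.node 1 (.leaf st1768) (.node 1 (.leaf st1769) (.leaf st1770)))) (.node 2 (.node 1 (.leaf st1771) (.leaf st1772)) (.node 1 (.leaf st1773) (.node 1 (.leaf st1774) (.leaf st1775))))) (.node 5 (.node 2 (.node 1 (.leaf st1776) (.leaf st1777)) (.node 1 (.leaf st1778) (.node 1 (.leaf st1779) (.leaf st1780)))) (.node 2 (.node 1 (.leaf st1781) (.leaf st1782)) (.node 1 (.leaf st1783) (.node 1 (.leaf st1784) (.leaf st1785)))))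

/-- A part of the table of representatives. -/
def hexRep174 : NumTree := .node 20 (hexRep175) (hexRep176)

/-- A part of the table of representatives. -/
def hexRep170 : NumTree := .node 40 (hexRep171) (hexRep174)

/-- A part of the table of representatives. -/
def hexRep162 : NumTree := .node 80 (hexRep163) (hexRep170)

/-- A part of the table of representatives. -/
def hexRep180 : NumTree := .node 10 (.node 5 (.node 2 (.node 1 (.leaf st1786) (.leaf st1787)) (.node 1 (.leaf st1788) (.node 1 (.leaf st1789) (.leaf st1790)))) (.node 2 (.node 1 (.leaf st1791) (.leaf st1792)) (.node 1 (.leaf st1793) (.node 1 (.leaf st1794) (.leaf st1795))))) (.node 5 (.node 2 (.node 1 (.leaf st1796) (.leaf st1797)) (.node 1 (.leaf st1798) (.node 1 (.leaf st1799) (.leaf st1800)))) (.node 2 (.node 1 (.leaf st1801) (.leaf st1802)) (.node 1 (.leaf st1803) (.node 1 (.leaf st1804) (.leaf st1805)))))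

/-- A part of the table of representatives. -/
def hexRep181 : NumTree := .node 10 (.node 5 (.node 2 (.node 1 (.leaf st1806) (.leaf st1807)) (.node 1 (.leaf st1808) (.node 1 (.leaf st1809) (.leaf st1810)))) (.node 2 (.node 1 (.leaf st1811) (.leaf st1812)) (.node 1 (.leaf st1813) (.node 1 (.leaf st1814) (.leaf st1815))))) (.node 5 (.node 2 (.node 1 (.leaf st1816) (.leaf st1817)) (.node 1 (.leaf st1818) (.node 1 (.leaf st1819) (.leaf st1820)))) (.node 2 (.node 1 (.leaf st1821) (.leaf st1822)) (.node 1 (.leaf st1823) (.node 1 (.leaf st1824) (.leaf st1825)))))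

/-- A part of the table of representatives. -/
def hexRep179 : NumTree := .node 20 (hexRep180) (hexRep181)

/-- A part of the table of representatives. -/
def hexRep183 : NumTree := .node 10 (.node 5 (.node 2 (.node 1 (.leaf st1826) (.leaf st1827)) (.node 1 (.leaf st1828) (.node 1 (.leaf st1829) (.leaf st1830)))) (.node 2 (.node 1 (.leaf st1831) (.leaf st1832)) (.node 1 (.leaf st1833) (.node 1 (.leaf st1834) (.leaf st1835))))) (.node 5 (.node 2 (.node 1 (.leaf st1836) (.leaf st1837)) (.node 1 (.leaf st1838) (.node 1 (.leaf st1839) (.leaf st1840)))) (.node 2 (.node 1 (.leaf st1841) (.leaf st1842)) (.node 1 (.leaf st1843) (.node 1 (.leaf st1844) (.leaf st1845)))))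

/-- A part of the table of representatives. -/
def hexRep184 : NumTree := .node 10 (.node 5 (.node 2 (.node 1 (.leaf st1846) (.leaf st1847)) (.node 1 (.leaf st1848) (.node 1 (.leaf st1849) (.leaf st1850)))) (.node 2 (.node 1 (.leaf st1851) (.leaf st1852)) (.node 1 (.leaf st1853) (.node 1 (.leaf st1854) (.leaf st1855))))) (.node 5 (.node 2 (.node 1 (.leaf st1856) (.leaf st1857)) (.node 1 (.leaf st1858) (.node 1 (.leaf st1859) (.leaf st1860)))) (.node 2 (.node 1 (.leaf st1861) (.leaf st1862)) (.node 1 (.leaf st1863) (.node 1 (.leaf st1864) (.leaf st1865)))))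

/-- A part of the table of representatives. -/
def hexRep182 : NumTree := .node 20 (hexRep183) (hexRep184)

/-- A part of the table of representatives. -/
def hexRep178 : NumTree := .node 40 (hexRep179) (hexRep182)

/-- A part of the table of representatives. -/
def hexRep187 : NumTree := .node 10 (.node 5 (.node 2 (.node 1 (.leaf st1866) (.leaf st11)) (.node 1 (.leaf st1867) (.node 1 (.leaf st1868) (.leaf st1869)))) (.node 2 (.node 1 (.leaf st1870) (.leaf st1871)) (.node 1 (.leaf st1872) (.node 1 (.leaf st1873) (.leaf st1874))))) (.node 5 (.node 2 (.node 1 (.leaf st1875) (.leaf st1876)) (.node 1 (.leaf st1877) (.node 1 (.leaf st1878) (.leaf st1879)))) (.node 2 (.node 1 (.leaf st1880) (.leaf st1881)) (.node 1 (.leaf st1882) (.node 1 (.leaf st1883) (.leaf st1884)))))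

/-- A part of the table of representatives. -/
def hexRep188 : NumTree := .node 10 (.node 5 (.node 2 (.node 1 (.leaf st1885) (.leaf st1886)) (.node 1 (.leaf st1887) (.node 1 (.leaf st1888) (.leaf st1889)))) (.node 2 (.node 1 (.leaf st1890) (.leaf st1891)) (.node 1 (.leaf st1892) (.node 1 (.leaf st1893) (.leaf st1894))))) (.node 5 (.node 2 (.node 1 (.leaf st1895) (.leaf st1896)) (.node 1 (.leaf st1897) (.node 1 (.leaf st1898) (.leaf st1899)))) (.node 2 (.node 1 (.leaf st1900) (.leaf st1901)) (.node 1 (.leaf st1902) (.node 1 (.leaf st1903) (.leaf st1904)))))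

/-- A part of the table of representatives. -/
def hexRep186 : NumTree := .node 20 (hexRep187) (hexRep188)

/-- A part of the table of representatives. -/
def hexRep190 : NumTree := .node 10 (.node 5 (.node 2 (.node 1 (.leaf st1905) (.leaf st1906)) (.node 1 (.leaf st1907) (.node 1 (.leaf st1908) (.leaf st1909)))) (.node 2 (.node 1 (.leaf st1910) (.leaf st1911)) (.node 1 (.leaf st1912) (.node 1 (.leaf st1913) (.leaf st1914))))) (.node 5 (.node 2 (.node 1 (.leaf st1915) (.leaf st1916)) (.node 1 (.leaf st1917) (.node 1 (.leaf st1918) (.leaf st1919)))) (.node 2 (.node 1 (.leaf st1920) (.leaf st1921)) (.node 1 (.leaf st1922) (.node 1 (.leaf st1923) (.leaf st1924)))))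

/-- A part of the table of representatives. -/
def hexRep191 : NumTree := .node 10 (.node 5 (.node 2 (.node 1 (.leaf st1925) (.leaf st1926)) (.node 1 (.leaf st1927) (.node 1 (.leaf st1928) (.leaf st1929)))) (.node 2 (.node 1 (.leaf st1930) (.leaf st1931)) (.node 1 (.leaf st1932) (.node 1 (.leaf st1933) (.leaf st1934))))) (.node 5 (.node 2 (.node 1 (.leaf st1935) (.leaf st1936)) (.node 1 (.leaf st1937) (.node 1 (.leaf st1938) (.leaf st1939)))) (.node 2 (.node 1 (.leaf st1940) (.leaf st1941)) (.node 1 (.leaf st1942) (.node 1 (.leaf st1943) (.leaf st1944)))))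

/-- A part of the table of representatives. -/
def hexRep189 : NumTree := .node 20 (hexRep190) (hexRep191)

/-- A part of the table of representatives. -/
def hexRep185 : NumTree := .node 40 (hexRep186) (hexRep189)

/-- A part of the table of representatives. -/
def hexRep177 : NumTree := .node 80 (hexRep178) (hexRep185)

/-- A part of the table of representatives. -/
def hexRep161 : NumTree := .node 160 (hexRep162) (hexRep177)

/-- A part of the table of representatives. -/
def hexRep129 : NumTree := .node 320 (hexRep130) (hexRep161)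

/-- A part of the table of representatives. -/
def hexRep197 : NumTree := .node 10 (.node 5 (.node 2 (.node 1 (.leaf st1945) (.leaf st1946)) (.node 1 (.leaf st1947) (.node 1 (.leaf st1948) (.leaf st1949)))) (.node 2 (.node 1 (.leaf st1950) (.leaf st1951)) (.node 1 (.leaf st1952) (.node 1 (.leaf st1953) (.leaf st1954))))) (.node 5 (.node 2 (.node 1 (.leaf st1955) (.leaf st1956)) (.node 1 (.leaf st1957) (.node 1 (.leaf st1958) (.leaf st1959)))) (.node 2 (.node 1 (.leaf st1960) (.leaf st1961)) (.node 1 (.leaf st1962) (.node 1 (.leaf st1963) (.leaf st1964)))))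

/-- A part of the table of representatives. -/
def hexRep198 : NumTree := .node 10 (.node 5 (.node 2 (.node 1 (.leaf st1965) (.leaf st1966)) (.node 1 (.leaf st1967) (.node 1 (.leaf st1968) (.leaf st1969)))) (.node 2 (.node 1 (.leaf st1970) (.leaf st1971)) (.node 1 (.leaf st1972) (.node 1 (.leaf st1973) (.leaf st1974))))) (.node 5 (.node 2 (.node 1 (.leaf st1975) (.leaf st1976)) (.node 1 (.leaf st1977) (.node 1 (.leaf st1978) (.leaf st1979)))) (.node 2 (.node 1 (.leaf st1980) (.leaf st1981)) (.node 1 (.leaf st1982) (.node 1 (.leaf st1983) (.leaf st1984)))))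

/-- A part of the table of representatives. -/
def hexRep196 : NumTree := .node 20 (hexRep197) (hexRep198)

/-- A part of the table of representatives. -/
def hexRep200 : NumTree := .node 10 (.node 5 (.node 2 (.node 1 (.leaf st1985) (.leaf st1986)) (.node 1 (.leaf st1987) (.node 1 (.leaf st1988) (.leaf st1989)))) (.node 2 (.node 1 (.leaf st1990) (.leaf st1991)) (.node 1 (.leaf st1992) (.node 1 (.leaf st1993) (.leaf st1994))))) (.node 5 (.node 2 (.node 1 (.leaf st1995) (.leaf st1996)) (.node 1 (.leaf st1997) (.node 1 (.leaf st1998) (.leaf st1999)))) (.node 2 (.node 1 (.leaf st2000) (.leaf st2001)) (.node 1 (.leaf st2002) (.node 1 (.leaf st2003) (.leaf st2004)))))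

/-- A part of the table of representatives. -/
def hexRep201 : NumTree := .node 10 (.node 5 (.node 2 (.node 1 (.leaf st2005) (.leaf st2006)) (.node 1 (.leaf st2007) (.node 1 (.leaf st2008) (.leaf st2009)))) (.node 2 (.node 1 (.leaf st2010) (.leaf st2011)) (.node 1 (.leaf st2012) (.node 1 (.leaf st2013) (.leaf st2014))))) (.node 5 (.node 2 (.node 1 (.leaf st2015) (.leaf st2016)) (.node 1 (.leaf st2017) (.node 1 (.leaf st2018) (.leaf st2019)))) (.node 2 (.node 1 (.leaf st2020) (.leaf st2021)) (.node 1 (.leaf st2022) (.node 1 (.leaf st2023) (.leaf st2024)))))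

/-- A part of the table of representatives. -/
def hexRep199 : NumTree := .node 20 (hexRep200) (hexRep201)

/-- A part of the table of representatives. -/
def hexRep195 : NumTree := .node 40 (hexRep196) (hexRep199)

/-- A part of the table of representatives. -/
def hexRep204 : NumTree := .node 10 (.node 5 (.node 2 (.node 1 (.leaf st2025) (.leaf st2026)) (.node 1 (.leaf st2027) (.node 1 (.leaf st2028) (.leaf st2029)))) (.node 2 (.node 1 (.leaf st2030) (.leaf st2031)) (.node 1 (.leaf st2032) (.node 1 (.leaf st2033) (.leaf st2034))))) (.node 5 (.node 2 (.node 1 (.leaf st2035) (.leaf st2036)) (.node 1 (.leaf st2037) (.node 1 (.leaf st2038) (.leaf st2039)))) (.node 2 (.node 1 (.leaf st2040) (.leaf st2041)) (.node 1 (.leaf st2042) (.node 1 (.leaf st2043) (.leaf st2044)))))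

/-- A part of the table of representatives. -/
def hexRep205 : NumTree := .node 10 (.node 5 (.node 2 (.node 1 (.leaf st2045) (.leaf st2046)) (.node 1 (.leaf st2047) (.node 1 (.leaf st2048) (.leaf st2049)))) (.node 2 (.node 1 (.leaf st2050) (.leaf st2051)) (.node 1 (.leaf st2052) (.node 1 (.leaf st2053) (.leaf st2054))))) (.node 5 (.node 2 (.node 1 (.leaf st2055) (.leaf st2056)) (.node 1 (.leaf st2057) (.node 1 (.leaf st2058) (.leaf st2059)))) (.node 2 (.node 1 (.leaf st2060) (.leaf st2061)) (.node 1 (.leaf st2062) (.node 1 (.leaf st2063) (.leaf st2064)))))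

/-- A part of the table of representatives. -/
def hexRep203 : NumTree := .node 20 (hexRep204) (hexRep205)

/-- A part of the table of representatives. -/
def hexRep207 : NumTree := .node 10 (.node 5 (.node 2 (.node 1 (.leaf st2065) (.leaf st2066)) (.node 1 (.leaf st2067) (.node 1 (.leaf st2068) (.leaf st2069)))) (.node 2 (.node 1 (.leaf st2070) (.leaf st2071)) (.node 1 (.leaf st2072) (.node 1 (.leaf st2073) (.leaf st2074))))) (.node 5 (.node 2 (.node 1 (.leaf st2075) (.leaf st2076)) (.node 1 (.leaf st2077) (.node 1 (.leaf st2078) (.leaf st2079)))) (.node 2 (.node 1 (.leaf st2080) (.leaf st2081)) (.node 1 (.leaf st2082) (.node 1 (.leaf st2083) (.leaf st2084)))))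

/-- A part of the table of representatives. -/
def hexRep208 : NumTree := .node 10 (.node 5 (.node 2 (.node 1 (.leaf st2085) (.leaf st2086)) (.node 1 (.leaf st2087) (.node 1 (.leaf st2088) (.leaf st2089)))) (.node 2 (.node 1 (.leaf st2090) (.leaf st2091)) (.node 1 (.leaf st2092) (.node 1 (.leaf st2093) (.leaf st2094))))) (.node 5 (.node 2 (.node 1 (.leaf st2095) (.leaf st2096)) (.node 1 (.leaf st2097) (.node 1 (.leaf st2098) (.leaf st2099)))) (.node 2 (.node 1 (.leaf st2100) (.leaf st2101)) (.node 1 (.leaf st2102) (.node 1 (.leaf st52) (.leaf st2103)))))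

/-- A part of the table of representatives. -/
def hexRep206 : NumTree := .node 20 (hexRep207) (hexRep208)

/-- A part of the table of representatives. -/
def hexRep202 : NumTree := .node 40 (hexRep203) (hexRep206)

/-- A part of the table of representatives. -/
def hexRep194 : NumTree := .node 80 (hexRep195) (hexRep202)

/-- A part of the table of representatives. -/
def hexRep212 : NumTree := .node 10 (.node 5 (.node 2 (.node 1 (.leaf st2104) (.leaf st2105)) (.node 1 (.leaf st2106) (.node 1 (.leaf st2107) (.leaf st2108)))) (.node 2 (.node 1 (.leaf st2109) (.leaf st2110)) (.node 1 (.leaf st2111) (.node 1 (.leaf st2112) (.leaf st2113))))) (.node 5 (.node 2 (.node 1 (.leaf st2114) (.leaf st2115)) (.node 1 (.leaf st2116) (.node 1 (.leaf st2117) (.leaf st2118)))) (.node 2 (.node 1 (.leaf st2119) (.leaf st2120)) (.node 1 (.leaf st2121) (.node 1 (.leaf st2122) (.leaf st2123)))))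

/-- A part of the table of representatives. -/
def hexRep213 : NumTree := .node 10 (.node 5 (.node 2 (.node 1 (.leaf st2124) (.leaf st2125)) (.node 1 (.leaf st2126) (.node 1 (.leaf st2127) (.leaf st2128)))) (.node 2 (.node 1 (.leaf st2129) (.leaf st2130)) (.node 1 (.leaf st2131) (.node 1 (.leaf st2132) (.leaf st2133))))) (.node 5 (.node 2 (.node 1 (.leaf st2134) (.leaf st2135)) (.node 1 (.leaf st2136) (.node 1 (.leaf st2137) (.leaf st2138)))) (.node 2 (.node 1 (.leaf st2139) (.leaf st2140)) (.node 1 (.leaf st2141) (.node 1 (.leaf st2142) (.leaf st2143)))))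

/-- A part of the table of representatives. -/
def hexRep211 : NumTree := .node 20 (hexRep212) (hexRep213)

/-- A part of the table of representatives. -/
def hexRep215 : NumTree := .node 10 (.node 5 (.node 2 (.node 1 (.leaf st2144) (.leaf st2145)) (.node 1 (.leaf st2146) (.node 1 (.leaf st2147) (.leaf st2148)))) (.node 2 (.node 1 (.leaf st2149) (.leaf st2150)) (.node 1 (.leaf st2151) (.node 1 (.leaf st2152) (.leaf st2153))))) (.node 5 (.node 2 (.node 1 (.leaf st2154) (.leaf st2155)) (.node 1 (.leaf st2156) (.node 1 (.leaf st2157) (.leaf st2158)))) (.node 2 (.node 1 (.leaf st2159) (.leaf st2160)) (.node 1 (.leaf st2161) (.node 1 (.leaf st2162) (.leaf st2163)))))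

/-- A part of the table of representatives. -/
def hexRep216 : NumTree := .node 10 (.node 5 (.node 2 (.node 1 (.leaf st2164) (.leaf st2165)) (.node 1 (.leaf st2166) (.node 1 (.leaf st2167) (.leaf st2168)))) (.node 2 (.node 1 (.leaf st2169) (.leaf st2170)) (.node 1 (.leaf st2171) (.node 1 (.leaf st2172) (.leaf st2173))))) (.node 5 (.node 2 (.node 1 (.leaf st2174) (.leaf st2175)) (.node 1 (.leaf st2176) (.node 1 (.leaf st2177) (.leaf st2178)))) (.node 2 (.node 1 (.leaf st2179) (.leaf st2180)) (.node 1 (.leaf st2181) (.node 1 (.leaf st2182) (.leaf st2183)))))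

/-- A part of the table of representatives. -/
def hexRep214 : NumTree := .node 20 (hexRep215) (hexRep216)

/-- A part of the table of representatives. -/
def hexRep210 : NumTree := .node 40 (hexRep211) (hexRep214)

/-- A part of the table of representatives. -/
def hexRep219 : NumTree := .node 10 (.node 5 (.node 2 (.node 1 (.leaf st2184) (.leaf st2185)) (.node 1 (.leaf st2186) (.node 1 (.leaf st2187) (.leaf st2188)))) (.node 2 (.node 1 (.leaf st2189) (.leaf st2190)) (.node 1 (.leaf st2191) (.node 1 (.leaf st2192) (.leaf st2193))))) (.node 5 (.node 2 (.node 1 (.leaf st2194) (.leaf st2195)) (.node 1 (.leaf st2196) (.node 1 (.leaf st2197) (.leaf st2198)))) (.node 2 (.node 1 (.leaf st2199) (.leaf st2200)) (.node 1 (.leaf st2201) (.node 1 (.leaf st2202) (.leaf st2203)))))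

/-- A part of the table of representatives. -/
def hexRep220 : NumTree := .node 10 (.node 5 (.node 2 (.node 1 (.leaf st2204) (.leaf st2205)) (.node 1 (.leaf st2206) (.node 1 (.leaf st2207) (.leaf st2208)))) (.node 2 (.node 1 (.leaf st2209) (.leaf st2210)) (.node 1 (.leaf st2211) (.node 1 (.leaf st2212) (.leaf st2213))))) (.node 5 (.node 2 (.node 1 (.leaf st2214) (.leaf st2215)) (.node 1 (.leaf st2216) (.node 1 (.leaf st2217) (.leaf st2218)))) (.node 2 (.node 1 (.leaf st2219) (.leaf st2220)) (.node 1 (.leaf st2221) (.node 1 (.leaf st2222) (.leaf st2223)))))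

/-- A part of the table of representatives. -/
def hexRep218 : NumTree := .node 20 (hexRep219) (hexRep220)

/-- A part of the table of representatives. -/
def hexRep222 : NumTree := .node 10 (.node 5 (.node 2 (.node 1 (.leaf st2224) (.leaf st2225)) (.node 1 (.leaf st2226) (.node 1 (.leaf st2227) (.leaf st2228)))) (.node 2 (.node 1 (.leaf st2229) (.leaf st2230)) (.node 1 (.leaf st2231) (.node 1 (.leaf st2232) (.leaf st2233))))) (.node 5 (.node 2 (.node 1 (.leaf st2234) (.leaf st2235)) (.node 1 (.leaf st2236) (.node 1 (.leaf st2237) (.leaf st2238)))) (.node 2 (.node 1 (.leaf st2239) (.leaf st2240)) (.node 1 (.leaf st2241) (.node 1 (.leaf st2242) (.leaf st2243)))))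

/-- A part of the table of representatives. -/
def hexRep223 : NumTree := .node 10 (.node 5 (.node 2 (.node 1 (.leaf st2244) (.leaf st2245)) (.node 1 (.leaf st2246) (.node 1 (.leaf st2247) (.leaf st2248)))) (.node 2 (.node 1 (.leaf st2249) (.leaf st2250)) (.node 1 (.leaf st2251) (.node 1 (.leaf st2252) (.leaf st2253))))) (.node 5 (.node 2 (.node 1 (.leaf st2254) (.leaf st2255)) (.node 1 (.leaf st2256) (.node 1 (.leaf st2257) (.leaf st2258)))) (.node 2 (.node 1 (.leaf st2259) (.leaf st2260)) (.node 1 (.leaf st2261) (.node 1 (.leaf st2262) (.leaf st50)))))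

/-- A part of the table of representatives. -/
def hexRep221 : NumTree := .node 20 (hexRep222) (hexRep223)

/-- A part of the table of representatives. -/
def hexRep217 : NumTree := .node 40 (hexRep218) (hexRep221)

/-- A part of the table of representatives. -/
def hexRep209 : NumTree := .node 80 (hexRep210) (hexRep217)

/-- A part of the table of representatives. -/
def hexRep193 : NumTree := .node 160 (hexRep194) (hexRep209)

/-- A part of the table of representatives. -/
def hexRep228 : NumTree := .node 10 (.node 5 (.node 2 (.node 1 (.leaf st2263) (.leaf st2264)) (.node 1 (.leaf st2265) (.node 1 (.leaf st2266) (.leaf st2267)))) (.node 2 (.node 1 (.leaf st2268) (.leaf st2269)) (.node 1 (.leaf st2270) (.node 1 (.leaf st2271) (.leaf st2272))))) (.node 5 (.node 2 (.node 1 (.leaf st2273) (.leaf st2274)) (.node 1 (.leaf st2275) (.node 1 (.leaf st2276) (.leaf st2277)))) (.node 2 (.node 1 (.leaf st2278) (.leaf st2279)) (.node 1 (.leaf st2280) (.node 1 (.leaf st2281) (.leaf st2282)))))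

/-- A part of the table of representatives. -/
def hexRep229 : NumTree := .node 10 (.node 5 (.node 2 (.node 1 (.leaf st2283) (.leaf st2284)) (.node 1 (.leaf st2285) (.node 1 (.leaf st2286) (.leaf st2287)))) (.node 2 (.node 1 (.leaf st2288) (.leaf st2289)) (.node 1 (.leaf st2290) (.node 1 (.leaf st2291) (.leaf st2292))))) (.node 5 (.node 2 (.node 1 (.leaf st2293) (.leaf st2294)) (.node 1 (.leaf st2295) (.node 1 (.leaf st2296) (.leaf st2297)))) (.node 2 (.node 1 (.leaf st2298) (.leaf st2299)) (.node 1 (.leaf st2300) (.node 1 (.leaf st2301) (.leaf st2302)))))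

/-- A part of the table of representatives. -/
def hexRep227 : NumTree := .node 20 (hexRep228) (hexRep229)

/-- A part of the table of representatives. -/
def hexRep231 : NumTree := .node 10 (.node 5 (.node 2 (.node 1 (.leaf st2303) (.leaf st2304)) (.node 1 (.leaf st2305) (.node 1 (.leaf st2306) (.leaf st2307)))) (.node 2 (.node 1 (.leaf st2308) (.leaf st2309)) (.node 1 (.leaf st2310) (.node 1 (.leaf st2311) (.leaf st2312))))) (.node 5 (.node 2 (.node 1 (.leaf st2313) (.leaf st2314)) (.node 1 (.leaf st2315) (.node 1 (.leaf st2316) (.leaf st2317)))) (.node 2 (.node 1 (.leaf st2318) (.leaf st2319)) (.node 1 (.leaf st2320) (.node 1 (.leaf st2321) (.leaf st2322)))))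

/-- A part of the table of representatives. -/
def hexRep232 : NumTree := .node 10 (.node 5 (.node 2 (.node 1 (.leaf st2323) (.leaf st2324)) (.node 1 (.leaf st2325) (.node 1 (.leaf st2326) (.leaf st2327)))) (.node 2 (.node 1 (.leaf st2328) (.leaf st2329)) (.node 1 (.leaf st2330) (.node 1 (.leaf st2331) (.leaf st2332))))) (.node 5 (.node 2 (.node 1 (.leaf st2333) (.leaf st2334)) (.node 1 (.leaf st2335) (.node 1 (.leaf st2336) (.leaf st2337)))) (.node 2 (.node 1 (.leaf st2338) (.leaf st2339)) (.node 1 (.leaf st2340) (.node 1 (.leaf st2341) (.leaf st49)))))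

/-- A part of the table of representatives. -/
def hexRep230 : NumTree := .node 20 (hexRep231) (hexRep232)

/-- A part of the table of representatives. -/
def hexRep226 : NumTree := .node 40 (hexRep227) (hexRep230)

/-- A part of the table of representatives. -/
def hexRep235 : NumTree := .node 10 (.node 5 (.node 2 (.node 1 (.leaf st2342) (.leaf st2343)) (.node 1 (.leaf st2344) (.node 1 (.leaf st2345) (.leaf st2346)))) (.node 2 (.node 1 (.leaf st2347) (.leaf st2348)) (.node 1 (.leaf st2349) (.node 1 (.leaf st2350) (.leaf st2351))))) (.node 5 (.node 2 (.node 1 (.leaf st2352) (.leaf st2353)) (.node 1 (.leaf st2354) (.node 1 (.leaf st2355) (.leaf st2356)))) (.node 2 (.node 1 (.leaf st2357) (.leaf st2358)) (.node 1 (.leaf st2359) (.node 1 (.leaf st2360) (.leaf st2361)))))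

/-- A part of the table of representatives. -/
def hexRep236 : NumTree := .node 10 (.node 5 (.node 2 (.node 1 (.leaf st2362) (.leaf st2363)) (.node 1 (.leaf st2364) (.node 1 (.leaf st2365) (.leaf st2366)))) (.node 2 (.node 1 (.leaf st2367) (.leaf st2368)) (.node 1 (.leaf st2369) (.node 1 (.leaf st2370) (.leaf st2371))))) (.node 5 (.node 2 (.node 1 (.leaf st2372) (.leaf st2373)) (.node 1 (.leaf st2374) (.node 1 (.leaf st2375) (.leaf st2376)))) (.node 2 (.node 1 (.leaf st2377) (.leaf st2378)) (.node 1 (.leaf st2379) (.node 1 (.leaf st2380) (.leaf st2381)))))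

/-- A part of the table of representatives. -/
def hexRep234 : NumTree := .node 20 (hexRep235) (hexRep236)

/-- A part of the table of representatives. -/
def hexRep238 : NumTree := .node 10 (.node 5 (.node 2 (.node 1 (.leaf st2382) (.leaf st2383)) (.node 1 (.leaf st2384) (.node 1 (.leaf st2385) (.leaf st2386)))) (.node 2 (.node 1 (.leaf st2387) (.leaf st2388)) (.node 1 (.leaf st2389) (.node 1 (.leaf st2390) (.leaf st2391))))) (.node 5 (.node 2 (.node 1 (.leaf st2392) (.leaf st2393)) (.node 1 (.leaf st2394) (.node 1 (.leaf st2395) (.leaf st2396)))) (.node 2 (.node 1 (.leaf st2397) (.leaf st2398)) (.node 1 (.leaf st2399) (.node 1 (.leaf st2400) (.leaf st2401)))))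

/-- A part of the table of representatives. -/
def hexRep239 : NumTree := .node 10 (.node 5 (.node 2 (.node 1 (.leaf st2402) (.leaf st2403)) (.node 1 (.leaf st2404) (.node 1 (.leaf st2405) (.leaf st2406)))) (.node 2 (.node 1 (.leaf st2407) (.leaf st2408)) (.node 1 (.leaf st2409) (.node 1 (.leaf st2410) (.leaf st2411))))) (.node 5 (.node 2 (.node 1 (.leaf st2412) (.leaf st2413)) (.node 1 (.leaf st2414) (.node 1 (.leaf st2415) (.leaf st2416)))) (.node 2 (.node 1 (.leaf st2417) (.leaf st2418)) (.node 1 (.leaf st2419) (.node 1 (.leaf st2420) (.leaf st2421)))))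

/-- A part of the table of representatives. -/
def hexRep237 : NumTree := .node 20 (hexRep238) (hexRep239)

/-- A part of the table of representatives. -/
def hexRep233 : NumTree := .node 40 (hexRep234) (hexRep237)

/-- A part of the table of representatives. -/
def hexRep225 : NumTree := .node 80 (hexRep226) (hexRep233)

/-- A part of the table of representatives. -/
def hexRep243 : NumTree := .node 10 (.node 5 (.node 2 (.node 1 (.leaf st2422) (.leaf st2423)) (.node 1 (.leaf st2424) (.node 1 (.leaf st2425) (.leaf st2426)))) (.node 2 (.node 1 (.leaf st2427) (.leaf st2428)) (.node 1 (.leaf st2429) (.node 1 (.leaf st2430) (.leaf st2431))))) (.node 5 (.node 2 (.node 1 (.leaf st2432) (.leaf st2433)) (.node 1 (.leaf st2434) (.node 1 (.leaf st2435) (.leaf st2436)))) (.node 2 (.node 1 (.leaf st2437) (.leaf st2438)) (.node 1 (.leaf st2439) (.node 1 (.leaf st2440) (.leaf st2441)))))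

/-- A part of the table of representatives. -/
def hexRep244 : NumTree := .node 10 (.node 5 (.node 2 (.node 1 (.leaf st2442) (.leaf st2443)) (.node 1 (.leaf st2444) (.node 1 (.leaf st2445) (.leaf st2446)))) (.node 2 (.node 1 (.leaf st2447) (.leaf st2448)) (.node 1 (.leaf st2449) (.node 1 (.leaf st2450) (.leaf st2451))))) (.node 5 (.node 2 (.node 1 (.leaf st2452) (.leaf st2453)) (.node 1 (.leaf st2454) (.node 1 (.leaf st2455) (.leaf st2456)))) (.node 2 (.node 1 (.leaf st2457) (.leaf st2458)) (.node 1 (.leaf st2459) (.node 1 (.leaf st2460) (.leaf st2461)))))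

/-- A part of the table of representatives. -/
def hexRep242 : NumTree := .node 20 (hexRep243) (hexRep244)

/-- A part of the table of representatives. -/
def hexRep246 : NumTree := .node 10 (.node 5 (.node 2 (.node 1 (.leaf st2462) (.leaf st2463)) (.node 1 (.leaf st2464) (.node 1 (.leaf st2465) (.leaf st2466)))) (.node 2 (.node 1 (.leaf st2467) (.leaf st2468)) (.node 1 (.leaf st2469) (.node 1 (.leaf st2470) (.leaf st2471))))) (.node 5 (.node 2 (.node 1 (.leaf st2472) (.leaf st2473)) (.node 1 (.leaf st2474) (.node 1 (.leaf st2475) (.leaf st2476)))) (.node 2 (.node 1 (.leaf st2477) (.leaf st2478)) (.node 1 (.leaf st2479) (.node 1 (.leaf st2480) (.leaf st2481)))))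

/-- A part of the table of representatives. -/
def hexRep247 : NumTree := .node 10 (.node 5 (.node 2 (.node 1 (.leaf st2482) (.leaf st2483)) (.node 1 (.leaf st2484) (.node 1 (.leaf st2485) (.leaf st2486)))) (.node 2 (.node 1 (.leaf st2487) (.leaf st2488)) (.node 1 (.leaf st2489) (.node 1 (.leaf st2490) (.leaf st2491))))) (.node 5 (.node 2 (.node 1 (.leaf st2492) (.leaf st2493)) (.node 1 (.leaf st2494) (.node 1 (.leaf st2495) (.leaf st2496)))) (.node 2 (.node 1 (.leaf st2497) (.leaf st2498)) (.node 1 (.leaf st2499) (.node 1 (.leaf st2500) (.leaf st2501)))))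

/-- A part of the table of representatives. -/
def hexRep245 : NumTree := .node 20 (hexRep246) (hexRep247)

/-- A part of the table of representatives. -/
def hexRep241 : NumTree := .node 40 (hexRep242) (hexRep245)

/-- A part of the table of representatives. -/
def hexRep250 : NumTree := .node 10 (.node 5 (.node 2 (.node 1 (.leaf st2502) (.leaf st2503)) (.node 1 (.leaf st2504) (.node 1 (.leaf st2505) (.leaf st2506)))) (.node 2 (.node 1 (.leaf st2507) (.leaf st2508)) (.node 1 (.leaf st2509) (.node 1 (.leaf st2510) (.leaf st2511))))) (.node 5 (.node 2 (.node 1 (.leaf st2512) (.leaf st2513)) (.node 1 (.leaf st2514) (.node 1 (.leaf st2515) (.leaf st2516)))) (.node 2 (.node 1 (.leaf st2517) (.leaf st2518)) (.node 1 (.leaf st2519) (.node 1 (.leaf st2520) (.leaf st2521)))))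

/-- A part of the table of representatives. -/
def hexRep251 : NumTree := .node 10 (.node 5 (.node 2 (.node 1 (.leaf st2522) (.leaf st2523)) (.node 1 (.leaf st2524) (.node 1 (.leaf st2525) (.leaf st2526)))) (.node 2 (.node 1 (.leaf st2527) (.leaf st2528)) (.node 1 (.leaf st2529) (.node 1 (.leaf st2530) (.leaf st2531))))) (.node 5 (.node 2 (.node 1 (.leaf st2532) (.leaf st2533)) (.node 1 (.leaf st2534) (.node 1 (.leaf st2535) (.leaf st2536)))) (.node 2 (.node 1 (.leaf st2537) (.leaf st2538)) (.node 1 (.leaf st2539) (.node 1 (.leaf st2540) (.leaf st2541)))))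

/-- A part of the table of representatives. -/
def hexRep249 : NumTree := .node 20 (hexRep250) (hexRep251)

/-- A part of the table of representatives. -/
def hexRep253 : NumTree := .node 10 (.node 5 (.node 2 (.node 1 (.leaf st2542) (.leaf st2543)) (.node 1 (.leaf st2544) (.node 1 (.leaf st2545) (.leaf st2546)))) (.node 2 (.node 1 (.leaf st2547) (.leaf st2548)) (.node 1 (.leaf st2549) (.node 1 (.leaf st2550) (.leaf st2551))))) (.node 5 (.node 2 (.node 1 (.leaf st2552) (.leaf st2553)) (.node 1 (.leaf st2554) (.node 1 (.leaf st2555) (.leaf st2556)))) (.node 2 (.node 1 (.leaf st2557) (.leaf st2558)) (.node 1 (.leaf st2559) (.node 1 (.leaf st2560) (.leaf st2561)))))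

/-- A part of the table of representatives. -/
def hexRep254 : NumTree := .node 10 (.node 5 (.node 2 (.node 1 (.leaf st2562) (.leaf st2563)) (.node 1 (.leaf st2564) (.node 1 (.leaf st2565) (.leaf st2566)))) (.node 2 (.node 1 (.leaf st2567) (.leaf st2568)) (.node 1 (.leaf st2569) (.node 1 (.leaf st2570) (.leaf st2571))))) (.node 5 (.node 2 (.node 1 (.leaf st2572) (.leaf st2573)) (.node 1 (.leaf st2574) (.node 1 (.leaf st2575) (.leaf st2576)))) (.node 2 (.node 1 (.leaf st2577) (.leaf st2578)) (.node 1 (.leaf st2579) (.node 1 (.leaf st2580) (.leaf st2581)))))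

/-- A part of the table of representatives. -/
def hexRep252 : NumTree := .node 20 (hexRep253) (hexRep254)

/-- A part of the table of representatives. -/
def hexRep248 : NumTree := .node 40 (hexRep249) (hexRep252)

/-- A part of the table of representatives. -/
def hexRep240 : NumTree := .node 80 (hexRep241) (hexRep248)

/-- A part of the table of representatives. -/
def hexRep224 : NumTree := .node 160 (hexRep225) (hexRep240)

/-- A part of the table of representatives. -/
def hexRep192 : NumTree := .node 320 (hexRep193) (hexRep224)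

/-- A part of the table of representatives. -/
def hexRep128 : NumTree := .node 640 (hexRep129) (hexRep192)

/-- A part of the table of representatives. -/
def hexRep0 : NumTree := .node 1280 (hexRep1) (hexRep128)

theorem hexCos_agree : (Nat.beq hexCos.reps.length hexCert.N && hexRep0.agreeB hexCos.reps 0) = true := by
  decide +kernel

theorem hexCos_tree0 : walk2 (fun x r _ => cosTreeB hexRep0 7 88 hexSub hexCert x r) (hexCos.reps.take 400) (hexCos.wit0.take 400) (0) = true := by
  decide +kernel

theorem hexCos_tree1 : walk2 (fun x r _ => cosTreeB hexRep0 7 88 hexSub hexCert x r) ((hexCos.reps.drop 400).take 400) ((hexCos.wit0.drop 400).take 400) (0 + 400) = true := by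
  decide +kernel

theorem hexCos_tree2 : walk2 (fun x r _ => cosTreeB hexRep0 7 88 hexSub hexCert x r) (((hexCos.reps.drop 400).drop 400).take 400) (((hexCos.wit0.drop 400).drop 400).take 400) (0 + 400 + 400) = true := by
  decide +kernel

theorem hexCos_tree3 : walk2 (fun x r _ => cosTreeB hexRep0 7 88 hexSub hexCert x r) ((((hexCos.reps.drop 400).drop 400).drop 400).take 400) ((((hexCos.wit0.drop 400).drop 400).drop 400).take 400) (0 + 400 + 400 + 400) = true := by
  decide +kernel

theorem hexCos_tree4 : walk2 (fun x r _ => cosTreeB hexRep0 7 88 hexSub hexCert x r) (((((hexCos.reps.drop 400).drop 400).drop 400).drop 400).take 400) (((((hexCos.wit0.drop 400).drop 400).drop 400).drop 400).take 400) (0 + 400 + 400 + 400 + 400) = true := by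
  decide +kernel

theorem hexCos_tree5 : walk2 (fun x r _ => cosTreeB hexRep0 7 88 hexSub hexCert x r) ((((((hexCos.reps.drop 400).drop 400).drop 400).drop 400).drop 400).take 400) ((((((hexCos.wit0.drop 400).drop 400).drop 400).drop 400).drop 400).take 400) (0 + 400 + 400 + 400 + 400 + 400) = true := by
  decide +kernel

theorem hexCos_tree6 : walk2 (fun x r _ => cosTreeB hexRep0 7 88 hexSub hexCert x r) ((((((hexCos.reps.drop 400).drop 400).drop 400).drop 400).drop 400).drop 400) ((((((hexCos.wit0.drop 400).drop 400).drop 400).drop 400).drop 400).drop 400) (0 + 400 + 400 + 400 + 400 + 400 + 400) = true := by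
  decide +kernel

theorem hexCos_wit00 : walk2 (cosWitB hexRep0 7 88 hexSub hexLow hexCert 0) (hexCos.reps.take 400) (hexCos.wit0.take 400) (0) = true := by
  decide +kernel

theorem hexCos_wit01 : walk2 (cosWitB hexRep0 7 88 hexSub hexLow hexCert 0) ((hexCos.reps.drop 400).take 400) ((hexCos.wit0.drop 400).take 400) (0 + 400) = true := by
  decide +kernel

theorem hexCos_wit02 : walk2 (cosWitB hexRep0 7 88 hexSub hexLow hexCert 0) (((hexCos.reps.drop 400).drop 400).take 400) (((hexCos.wit0.drop 400).drop 400).take 400) (0 + 400 + 400) = true := by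
  decide +kernel

theorem hexCos_wit03 : walk2 (cosWitB hexRep0 7 88 hexSub hexLow hexCert 0) ((((hexCos.reps.drop 400).drop 400).drop 400).take 400) ((((hexCos.wit0.drop 400).drop 400).drop 400).take 400) (0 + 400 + 400 + 400) = true := by
  decide +kernel

theorem hexCos_wit04 : walk2 (cosWitB hexRep0 7 88 hexSub hexLow hexCert 0) (((((hexCos.reps.drop 400).drop 400).drop 400).drop 400).take 400) (((((hexCos.wit0.drop 400).drop 400).drop 400).drop 400).take 400) (0 + 400 + 400 + 400 + 400) = true := by
  decide +kernel

theorem hexCos_wit05 : walk2 (cosWitB hexRep0 7 88 hexSub hexLow hexCert 0) ((((((hexCos.reps.drop 400).drop 400).drop 400).drop 400).drop 400).take 400) ((((((hexCos.wit0.drop 400).drop 400).drop 400).drop 400).drop 400).take 400) (0 + 400 + 400 + 400 + 400 + 400) = true := by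
  decide +kernel

theorem hexCos_wit06 : walk2 (cosWitB hexRep0 7 88 hexSub hexLow hexCert 0) ((((((hexCos.reps.drop 400).drop 400).drop 400).drop 400).drop 400).drop 400) ((((((hexCos.wit0.drop 400).drop 400).drop 400).drop 400).drop 400).drop 400) (0 + 400 + 400 + 400 + 400 + 400 + 400) = true := by
  decide +kernel

theorem hexCos_wit10 : walk2 (cosWitB hexRep0 7 88 hexSub hexLow hexCert 1) (hexCos.reps.take 400) (hexCos.wit1.take 400) (0) = true := by
  decide +kernel

theorem hexCos_wit11 : walk2 (cosWitB hexRep0 7 88 hexSub hexLow hexCert 1) ((hexCos.reps.drop 400).take 400) ((hexCos.wit1.drop 400).take 400) (0 + 400) = true := by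
  decide +kernel

theorem hexCos_wit12 : walk2 (cosWitB hexRep0 7 88 hexSub hexLow hexCert 1) (((hexCos.reps.drop 400).drop 400).take 400) (((hexCos.wit1.drop 400).drop 400).take 400) (0 + 400 + 400) = true := by
  decide +kernel

theorem hexCos_wit13 : walk2 (cosWitB hexRep0 7 88 hexSub hexLow hexCert 1) ((((hexCos.reps.drop 400).drop 400).drop 400).take 400) ((((hexCos.wit1.drop 400).drop 400).drop 400).take 400) (0 + 400 + 400 + 400) = true := by
  decide +kernel

theorem hexCos_wit14 : walk2 (cosWitB hexRep0 7 88 hexSub hexLow hexCert 1) (((((hexCos.reps.drop 400).drop 400).drop 400).drop 400).take 400) (((((hexCos.wit1.drop 400).drop 400).drop 400).drop 400).take 400) (0 + 400 + 400 + 400 + 400) = true := by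
  decide +kernel

theorem hexCos_wit15 : walk2 (cosWitB hexRep0 7 88 hexSub hexLow hexCert 1) ((((((hexCos.reps.drop 400).drop 400).drop 400).drop 400).drop 400).take 400) ((((((hexCos.wit1.drop 400).drop 400).drop 400).drop 400).drop 400).take 400) (0 + 400 + 400 + 400 + 400 + 400) = true := by
  decide +kernel

theorem hexCos_wit16 : walk2 (cosWitB hexRep0 7 88 hexSub hexLow hexCert 1) ((((((hexCos.reps.drop 400).drop 400).drop 400).drop 400).drop 400).drop 400) ((((((hexCos.wit1.drop 400).drop 400).drop 400).drop 400).drop 400).drop 400) (0 + 400 + 400 + 400 + 400 + 400 + 400) = true := by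
  decide +kernel

theorem hexCos_rest : hexCos.restOk 7 88 hexSub hexLow hexCert = true := by
  decide +kernel

theorem hexCos_ok : hexCos.ok 7 88 hexSub hexLow hexCert = true :=
  Cos.ok_of_fast hexCert_shape (Cos.fastOk_of_parts hexCos_agree (walk2_split 400 hexCos_tree0 <| walk2_split 400 hexCos_tree1 <| walk2_split 400 hexCos_tree2 <| walk2_split 400 hexCos_tree3 <| walk2_split 400 hexCos_tree4 <| walk2_split 400 hexCos_tree5 <| hexCos_tree6) (walk2_split 400 hexCos_wit00 <| walk2_split 400 hexCos_wit01 <| walk2_split 400 hexCos_wit02 <| walk2_split 400 hexCos_wit03 <| walk2_split 400 hexCos_wit04 <| walk2_split 400 hexCos_wit05 <| hexCos_wit06) (walk2_split 400 hexCos_wit10 <| walk2_split 400 hexCos_wit11 <| walk2_split 400 hexCos_wit12 <| walk2_split 400 hexCos_wit13 <| walk2_split 400 hexCos_wit14 <| walk2_split 400 hexCos_wit15 <| hexCos_wit16)) hexCos_rest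

end Cfsg.Lib.PermAut.MTwentyTwo.Mult
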