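import Cfsg.Agent.Lib.PermAut.Proj
import Cfsg.Agent.Lib.PermAut.SubFused

/-!
# A fused certificate read in a faithful restriction
-/

set_option autoImplicit false

namespace Cfsg.Lib.PermAut

open Equiv MulAction Cfsg.Lib.Concrete

variable {b b' N M : ℕ} [NeZero N] [NeZero M]

/-- A subgroup of odd index whose faithful restriction has a certificate with a fused pair. -/
theorem noStem_two_of_rest_fused {H T L : Sub} {K : Subgroup (Perm (Fin N))} (hle : H.grp b N ≤ K) {d : ℕ}
    (hd : Nat.card K = H.size * d) (hpd : ¬ 2 ∣ d) (VH : H.Valid b N) (VT : T.Valid b' M) (hM : M ≤ N)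
    (hr : (restB b b' M [H.g0] T.g0 && restB b b' M [H.g1] T.g1) = true) (hsz : H.size = T.size)
    {k : Cos} {c : StemCert} (VL : L.Valid b' M) (hk : k.ok b' M T L c = true) (A : SVec 2 c.m) {r : ℕ}
    (hc : Cfsg.Lib.Schur.Zero.checkZero c A [r] = true) (hcard : T.size = c.N * L.size)
    (hlift : LiftsAt 2 (inner b' M T L)) {wt we : List ℕ}
    (hW : all2 (fun x y => Nat.beq x y) (c.rels.getD r []) (wt ++ wt ++ (we ++ we)) = true) {g : ℕ}
    (hgR : Rep b (toP b N g) g) (hgK : toP b N g ∈ K)
    (hge : sameB b N (g :: we.map H.gen) (wt.map H.gen ++ [g]) = true)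
    (hee : sameB b N ((we ++ we).map H.gen) [] = true) : NoStem 2 ↥K := by
  haveI : Fact (Nat.Prime 2) := ⟨Nat.prime_two⟩
  have hW := eq_of_all2_beq hW
  have hg1 : ∀ W : List ℕ, ∀ S ∈ W.map H.gen, Rep b (toP b N S) S := fun W S hS => by
    obtain ⟨i, -, rfl⟩ := List.mem_map.1 hS
    exact VH.gen_rep i
  rw [Bool.and_eq_true] at hr
  obtain ⟨φ, hφ, hrange⟩ := exists_restrict VH hM VT.g0 VT.g1 hr.1 hr.2
  have hrg : φ.range = T.grp b' M := hrange
  let μ : ↥(H.grp b N) →* ↥(T.grp b' M) :=
    (MulEquiv.subgroupCongr hrg).toMonoidHom.comp φ.rangeRestrict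
  have hμs : Function.Surjective μ := (MulEquiv.subgroupCongr hrg).surjective.comp φ.rangeRestrict_surjective
  have hμb : Function.Bijective μ :=
    (Nat.bijective_iff_surjective_and_card μ).2 ⟨hμs, by rw [VH.card, VT.card, hsz]⟩
  let e : ↥(H.grp b N) ≃* ↥(T.grp b' M) := MulEquiv.ofBijective μ hμb
  have hgen' : ∀ i, e (H.genElt b N i) = T.genElt b' M i := by
    have key : ∀ {S t : ℕ}, Rep b (toP b N S) S → Rep b' (toP b' M t) t → restB b b' M [S] t = true →
        ∀ s : ↥(H.grp b N), (s : Perm (Fin N)) = toP b N S → φ s = toP b' M t := fun hS ht hr s hs =>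
      Equiv.ext fun x => Fin.castLE_injective hM (by
        rw [← hφ, hs]
        refine Fin.ext ?_
        rw [hS]
        exact (Nat.eq_of_beq_eq_true (restB_iff.1 hr x x.isLt)).trans (ht x).symm)
    intro i
    refine Subtype.ext ?_
    show φ (H.genElt b N i) = toP b' M (T.gen i)
    by_cases hi : Nat.beq i 0 = true
    · exact key (VH.gen_rep i) (VT.gen_rep i) (by simpa [Sub.gen, hi] using hr.1) _ rfl
    · exact key (VH.gen_rep i) (VT.gen_rep i) (by simpa [Sub.gen, hi] using hr.2) _ rfl
  let s' := T.genElt b' M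
  let s := H.genElt b N
  have hword : ∀ W : List ℕ, e (wordProd s W) = wordProd s' W := fun W => by
    simp only [wordProd, map_list_prod, List.map_map]
    congr 1
    exact List.map_congr_left fun i _ => hgen' i
  let eH : ↥(T.grp b' M) ≃* ↥((H.grp b N).subgroupOf K) := e.symm.trans (Subgroup.subgroupOfEquivOfLe hle).symm
  have heH : ∀ W : List ℕ, ((eH (wordProd s' W) : ↥K) : Perm (Fin N)) = ((W.map H.gen).map (toP b N)).prod :=
    fun W => by
      rw [← VH.wordProd_coe]
      show ((e.symm (wordProd s' W) : ↥(H.grp b N)) : Perm (Fin N)) = _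
      rw [← hword, MulEquiv.symm_apply_apply]
  have hidx : ¬ 2 ∣ ((H.grp b N).subgroupOf K).index := by
    have h := ((H.grp b N).subgroupOf K).card_mul_index
    rw [Nat.card_congr (Subgroup.subgroupOfEquivOfLe hle).toEquiv, VH.card, hd] at h
    rw [Nat.eq_of_mul_eq_mul_left (by rw [← VH.card]; exact Nat.card_pos) h]
    exact hpd
  have hsh : c.shapeOk = true := by
    simp only [Cfsg.Lib.Schur.Zero.checkZero, Bool.and_eq_true] at hc
    exact hc.1.1.1.1.1
  obtain ⟨P, hgen, hact, hsep, hrel, hstab⟩ := Cos.frame VT VL hk hsh hcard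
  refine Cfsg.Lib.Schur.noStem_two_of_fused ((H.grp b N).subgroupOf K) hidx (eH (wordProd s' wt))
    (eH (wordProd s' we)) ⟨toP b N g, hgK⟩ ?_ ?_ ?_
  · refine Subtype.ext ?_
    show toP b N g * ((eH (wordProd s' we) : ↥K) : Perm (Fin N)) * (toP b N g)⁻¹ =
      ((eH (wordProd s' wt) : ↥K) : Perm (Fin N))
    have h := eq_of_sameB (N := N) (fun S hS => (List.mem_cons.1 hS).elim (fun e => e ▸ hgR) (hg1 we S))
      (fun S hS => (List.mem_append.1 hS).elim (hg1 wt S) (fun h => (List.mem_singleton.1 h) ▸ hgR)) hge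
    simp only [List.map_cons, List.prod_cons, List.map_append, List.prod_append, List.map_nil, List.prod_nil,
      mul_one] at h
    rw [heH, heH, h, mul_inv_cancel_right]
  · rw [← map_mul, ← map_one eH]
    refine congrArg eH (e.symm.injective ?_)
    rw [map_mul, map_one, ← hword, MulEquiv.symm_apply_apply]
    refine Subtype.ext ?_
    have h := eq_of_sameB (N := N) (hg1 (we ++ we)) (by simp) hee
    simp only [List.map_append, List.prod_append, List.map_nil, List.prod_nil] at h
    rw [Subgroup.coe_mul, VH.wordProd_coe]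
    exact h
  · intro Γ _ _ τ hτs hτc hτcard hfus
    let σ : Γ →* ↥(T.grp b' M) := eH.symm.toMonoidHom.comp τ
    have hk' : σ.ker = τ.ker := by ext x; simp [σ, MonoidHom.mem_ker]
    have := Cfsg.Lib.Schur.Zero.not_le_of_cert c A [r] hc P s' hgen hact hsep hrel (by rw [hstab]; exact hlift) σ
      (eH.symm.surjective.comp hτs) (hk' ▸ hτc) (by rw [hk']; exact hτcard) (fun st hst r' hr' => by
        rw [List.mem_singleton.1 hr', hW]
        have hl : ∀ W : List ℕ, τ (wordProd st W) = eH (wordProd s' W) := fun W => by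
          have h : σ (wordProd st W) = wordProd s' W := by
            simp only [wordProd, map_list_prod, List.map_map]
            congr 1
            exact List.map_congr_left fun i _ => hst i
          rw [← h]
          exact (eH.apply_symm_apply _).symm
        have := hfus _ _ (hl wt) (hl we)
        simpa only [wordProd, List.map_append, List.prod_append] using this)
    rwa [hk'] at this

end Cfsg.Lib.PermAut
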