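import Cfsg.Agent.Lib.PermAut.MTwentyTwoMult.ThreeData
import Cfsg.Agent.Lib.PermAut.Proj
import Cfsg.Agent.Lib.PermAut.MTwentyTwoData

/-!
# The threefold cover
-/

set_option autoImplicit false
set_option maxRecDepth 100000

namespace Cfsg.Lib.PermAut.MTwentyTwo.Mult

open Cfsg.Lib.Concrete

theorem threeSub_ok : threeSub.ok 10 717 = true := by decide +kernel

theorem threeHex_ok : threeHex.ok 10 717 = true := by decide +kernel

theorem threeLow_ok : threeLow.ok 10 717 = true := by decide +kernel

theorem three_rest : (restB 10 5 24 [threeSub.g0] m22Sub.g0 && restB 10 5 24 [threeSub.g1] m22Sub.g1) = true := by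
  decide +kernel

theorem three_central : (invPairOk 10 717 threeZ threeZI && threeSub.centralB 10 717 24 threeZ threeU threeV threeZp) = true := by
  decide +kernel

theorem three_top : (pathOk threeSub.lev threeP0 && sameB 10 717 [threeHex.g0] (pickPath threeSub.lev threeP0) &&
    pathOk threeSub.lev threeP1 && sameB 10 717 [threeHex.g1] (pickPath threeSub.lev threeP1)) = true := by
  decide +kernel

theorem three_size : threeSub.size = 3 * 443520 ∧ threeSub.size = threeHex.size * 77 ∧
    threeHex.size = threeCert.N * threeLow.size ∧ Nat.beq (threeLow.size % 3) 0 = false := by decide +kernel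

end Cfsg.Lib.PermAut.MTwentyTwo.Mult
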