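import Cfsg.Agent.Lib.PermAut.MTwentyTwoMult.ThreeCertCheck

/-!
# The cosets of a subgroup of index prime to the degree
-/

set_option autoImplicit false
set_option maxRecDepth 100000
set_option Elab.async false

namespace Cfsg.Lib.PermAut.MTwentyTwo.Mult

open Cfsg.Lib.Concrete

/-- A part of the table of representatives. -/
def threeRep4 : NumTree := .node 8 (.node 4 (.node 2 (.node 1 (.leaf tt189) (.leaf tt148)) (.node 1 (.leaf tt190) (.leaf tt191))) (.node 2 (.node 1 (.leaf tt141) (.leaf tt192)) (.node 1 (.leaf tt193) (.leaf tt194)))) (.node 4 (.node 2 (.node 1 (.leaf tt195) (.leaf tt196)) (.node 1 (.leaf tt118) (.leaf tt197))) (.node 2 (.node 1 (.leaf tt153) (.leaf tt198)) (.node 1 (.leaf tt149) (.node 1 (.leaf tt199) (.leaf tt158)))))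

/-- A part of the table of representatives. -/
def threeRep3 : NumTree := .node 16 (.node 8 (.node 4 (.node 2 (.node 1 (.leaf tt43) (.leaf tt112)) (.node 1 (.leaf tt114) (.leaf tt113))) (.node 2 (.node 1 (.leaf tt116) (.leaf tt140)) (.node 1 (.leaf tt115) (.leaf tt185)))) (.node 4 (.node 2 (.node 1 (.leaf tt151) (.leaf tt147)) (.node 1 (.leaf tt186) (.leaf tt187))) (.node 2 (.node 1 (.leaf tt188) (.leaf tt152)) (.node 1 (.leaf tt142) (.leaf tt117))))) (threeRep4)

/-- A part of the table of representatives. -/
def threeRep6 : NumTree := .node 8 (.node 4 (.node 2 (.node 1 (.leaf tt200) (.leaf tt201)) (.node 1 (.leaf tt202) (.leaf tt203))) (.node 2 (.node 1 (.leaf tt204) (.leaf tt205)) (.node 1 (.leaf tt206) (.leaf tt207)))) (.node 4 (.node 2 (.node 1 (.leaf tt208) (.leaf tt143)) (.node 1 (.leaf tt209) (.leaf tt119))) (.node 2 (.node 1 (.leaf tt130) (.leaf tt210)) (.node 1 (.leaf tt211) (.node 1 (.leaf tt212) (.leaf tt213)))))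

/-- A part of the table of representatives. -/
def threeRep7 : NumTree := .node 8 (.node 4 (.node 2 (.node 1 (.leaf tt214) (.leaf tt215)) (.node 1 (.leaf tt216) (.leaf tt217))) (.node 2 (.node 1 (.leaf tt218) (.leaf tt219)) (.node 1 (.leaf tt220) (.leaf tt221)))) (.node 4 (.node 2 (.node 1 (.leaf tt222) (.leaf tt223)) (.node 1 (.leaf tt224) (.leaf tt225))) (.node 2 (.node 1 (.leaf tt226) (.leaf tt227)) (.node 1 (.leaf tt228) (.node 1 (.leaf tt229) (.leaf tt230)))))

/-- A part of the table of representatives. -/
def threeRep5 : NumTree := .node 17 (threeRep6) (threeRep7)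

/-- A part of the table of representatives. -/
def threeRep2 : NumTree := .node 33 (threeRep3) (threeRep5)

/-- A part of the table of representatives. -/
def threeRep10 : NumTree := .node 8 (.node 4 (.node 2 (.node 1 (.leaf tt231) (.leaf tt232)) (.node 1 (.leaf tt233) (.leaf tt120))) (.node 2 (.node 1 (.leaf tt131) (.leaf tt234)) (.node 1 (.leaf tt235) (.leaf tt236)))) (.node 4 (.node 2 (.node 1 (.leaf tt237) (.leaf tt238)) (.node 1 (.leaf tt239) (.leaf tt150))) (.node 2 (.node 1 (.leaf tt240) (.leaf tt241)) (.node 1 (.leaf tt242) (.node 1 (.leaf tt243) (.leaf tt244)))))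

/-- A part of the table of representatives. -/
def threeRep11 : NumTree := .node 8 (.node 4 (.node 2 (.node 1 (.leaf tt245) (.leaf tt246)) (.node 1 (.leaf tt247) (.leaf tt248))) (.node 2 (.node 1 (.leaf tt249) (.leaf tt250)) (.node 1 (.leaf tt160) (.leaf tt251)))) (.node 4 (.node 2 (.node 1 (.leaf tt252) (.leaf tt253)) (.node 1 (.leaf tt254) (.leaf tt255))) (.node 2 (.node 1 (.leaf tt256) (.leaf tt257)) (.node 1 (.leaf tt258) (.node 1 (.leaf tt144) (.leaf tt259)))))

/-- A part of the table of representatives. -/
def threeRep9 : NumTree := .node 17 (threeRep10) (threeRep11)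

/-- A part of the table of representatives. -/
def threeRep13 : NumTree := .node 8 (.node 4 (.node 2 (.node 1 (.leaf tt260) (.leaf tt261)) (.node 1 (.leaf tt262) (.leaf tt263))) (.node 2 (.node 1 (.leaf tt132) (.leaf tt264)) (.node 1 (.leaf tt265) (.leaf tt266)))) (.node 4 (.node 2 (.node 1 (.leaf tt267) (.leaf tt268)) (.node 1 (.leaf tt269) (.leaf tt270))) (.node 2 (.node 1 (.leaf tt156) (.leaf tt271)) (.node 1 (.leaf tt272) (.node 1 (.leaf tt273) (.leaf tt274)))))

/-- A part of the table of representatives. -/
def threeRep14 : NumTree := .node 8 (.node 4 (.node 2 (.node 1 (.leaf tt275) (.leaf tt276)) (.node 1 (.leaf tt277) (.leaf tt278))) (.node 2 (.node 1 (.leaf tt279) (.leaf tt280)) (.node 1 (.leaf tt281) (.leaf tt282)))) (.node 4 (.node 2 (.node 1 (.leaf tt283) (.leaf tt284)) (.node 1 (.leaf tt285) (.leaf tt286))) (.node 2 (.node 1 (.leaf tt287) (.leaf tt288)) (.node 1 (.leaf tt289) (.node 1 (.leaf tt290) (.leaf tt291)))))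

/-- A part of the table of representatives. -/
def threeRep12 : NumTree := .node 17 (threeRep13) (threeRep14)

/-- A part of the table of representatives. -/
def threeRep8 : NumTree := .node 34 (threeRep9) (threeRep12)

/-- A part of the table of representatives. -/
def threeRep1 : NumTree := .node 67 (threeRep2) (threeRep8)

/-- A part of the table of representatives. -/
def threeRep18 : NumTree := .node 8 (.node 4 (.node 2 (.node 1 (.leaf tt306) (.leaf tt307)) (.node 1 (.leaf tt308) (.leaf tt309))) (.node 2 (.node 1 (.leaf tt310) (.leaf tt311)) (.node 1 (.leaf tt312) (.leaf tt313)))) (.node 4 (.node 2 (.node 1 (.leaf tt314) (.leaf tt315)) (.node 1 (.leaf tt316) (.leaf tt317))) (.node 2 (.node 1 (.leaf tt318) (.leaf tt319)) (.node 1 (.leaf tt320) (.node 1 (.leaf tt321) (.leaf tt322)))))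

/-- A part of the table of representatives. -/
def threeRep17 : NumTree := .node 16 (.node 8 (.node 4 (.node 2 (.node 1 (.leaf tt292) (.leaf tt293)) (.node 1 (.leaf tt294) (.leaf tt295))) (.node 2 (.node 1 (.leaf tt296) (.leaf tt121)) (.node 1 (.leaf tt297) (.leaf tt133)))) (.node 4 (.node 2 (.node 1 (.leaf tt298) (.leaf tt299)) (.node 1 (.leaf tt300) (.leaf tt301))) (.node 2 (.node 1 (.leaf tt302) (.leaf tt303)) (.node 1 (.leaf tt304) (.leaf tt305))))) (threeRep18)

/-- A part of the table of representatives. -/
def threeRep20 : NumTree := .node 8 (.node 4 (.node 2 (.node 1 (.leaf tt323) (.leaf tt324)) (.node 1 (.leaf tt325) (.leaf tt326))) (.node 2 (.node 1 (.leaf tt327) (.leaf tt328)) (.node 1 (.leaf tt329) (.leaf tt330)))) (.node 4 (.node 2 (.node 1 (.leaf tt331) (.leaf tt332)) (.node 1 (.leaf tt333) (.leaf tt334))) (.node 2 (.node 1 (.leaf tt335) (.leaf tt336)) (.node 1 (.leaf tt337) (.node 1 (.leaf tt338) (.leaf tt339)))))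

/-- A part of the table of representatives. -/
def threeRep21 : NumTree := .node 8 (.node 4 (.node 2 (.node 1 (.leaf tt340) (.leaf tt341)) (.node 1 (.leaf tt154) (.leaf tt342))) (.node 2 (.node 1 (.leaf tt343) (.leaf tt344)) (.node 1 (.leaf tt345) (.leaf tt346)))) (.node 4 (.node 2 (.node 1 (.leaf tt347) (.leaf tt348)) (.node 1 (.leaf tt349) (.leaf tt350))) (.node 2 (.node 1 (.leaf tt351) (.leaf tt352)) (.node 1 (.leaf tt353) (.node 1 (.leaf tt354) (.leaf tt355)))))

/-- A part of the table of representatives. -/
def threeRep19 : NumTree := .node 17 (threeRep20) (threeRep21)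

/-- A part of the table of representatives. -/
def threeRep16 : NumTree := .node 33 (threeRep17) (threeRep19)

/-- A part of the table of representatives. -/
def threeRep24 : NumTree := .node 8 (.node 4 (.node 2 (.node 1 (.leaf tt356) (.leaf tt357)) (.node 1 (.leaf tt358) (.leaf tt359))) (.node 2 (.node 1 (.leaf tt360) (.leaf tt361)) (.node 1 (.leaf tt362) (.leaf tt363)))) (.node 4 (.node 2 (.node 1 (.leaf tt364) (.leaf tt365)) (.node 1 (.leaf tt366) (.leaf tt367))) (.node 2 (.node 1 (.leaf tt368) (.leaf tt369)) (.node 1 (.leaf tt370) (.node 1 (.leaf tt371) (.leaf tt372)))))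

/-- A part of the table of representatives. -/
def threeRep25 : NumTree := .node 8 (.node 4 (.node 2 (.node 1 (.leaf tt373) (.leaf tt374)) (.node 1 (.leaf tt375) (.leaf tt376))) (.node 2 (.node 1 (.leaf tt377) (.leaf tt378)) (.node 1 (.leaf tt379) (.leaf tt380)))) (.node 4 (.node 2 (.node 1 (.leaf tt381) (.leaf tt382)) (.node 1 (.leaf tt383) (.leaf tt384))) (.node 2 (.node 1 (.leaf tt134) (.leaf tt385)) (.node 1 (.leaf tt386) (.node 1 (.leaf tt387) (.leaf tt388)))))

/-- A part of the table of representatives. -/
def threeRep23 : NumTree := .node 17 (threeRep24) (threeRep25)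

/-- A part of the table of representatives. -/
def threeRep27 : NumTree := .node 8 (.node 4 (.node 2 (.node 1 (.leaf tt389) (.leaf tt390)) (.node 1 (.leaf tt391) (.leaf tt392))) (.node 2 (.node 1 (.leaf tt393) (.leaf tt394)) (.node 1 (.leaf tt395) (.leaf tt396)))) (.node 4 (.node 2 (.node 1 (.leaf tt397) (.leaf tt398)) (.node 1 (.leaf tt399) (.leaf tt400))) (.node 2 (.node 1 (.leaf tt401) (.leaf tt402)) (.node 1 (.leaf tt403) (.node 1 (.leaf tt404) (.leaf tt405)))))

/-- A part of the table of representatives. -/
def threeRep28 : NumTree := .node 8 (.node 4 (.node 2 (.node 1 (.leaf tt406) (.leaf tt407)) (.node 1 (.leaf tt408) (.leaf tt409))) (.node 2 (.node 1 (.leaf tt410) (.leaf tt411)) (.node 1 (.leaf tt412) (.leaf tt413)))) (.node 4 (.node 2 (.node 1 (.leaf tt414) (.leaf tt415)) (.node 1 (.leaf tt416) (.leaf tt417))) (.node 2 (.node 1 (.leaf tt418) (.leaf tt419)) (.node 1 (.leaf tt420) (.node 1 (.leaf tt421) (.leaf tt422)))))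

/-- A part of the table of representatives. -/
def threeRep26 : NumTree := .node 17 (threeRep27) (threeRep28)

/-- A part of the table of representatives. -/
def threeRep22 : NumTree := .node 34 (threeRep23) (threeRep26)

/-- A part of the table of representatives. -/
def threeRep15 : NumTree := .node 67 (threeRep16) (threeRep22)

/-- A part of the table of representatives. -/
def threeRep0 : NumTree := .node 135 (threeRep1) (threeRep15)

theorem threeCos_agree : (Nat.beq threeCos.reps.length threeCert.N && threeRep0.agreeB threeCos.reps 0) = true := by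
  decide +kernel

theorem threeCos_tree0 : walk2 (fun x r _ => cosTreeB threeRep0 10 717 threeHex threeCert x r) (threeCos.reps.take 90) (threeCos.wit0.take 90) (0) = true := by
  decide +kernel

theorem threeCos_tree1 : walk2 (fun x r _ => cosTreeB threeRep0 10 717 threeHex threeCert x r) ((threeCos.reps.drop 90).take 90) ((threeCos.wit0.drop 90).take 90) (0 + 90) = true := by
  decide +kernel

theorem threeCos_tree2 : walk2 (fun x r _ => cosTreeB threeRep0 10 717 threeHex threeCert x r) ((threeCos.reps.drop 90).drop 90) ((threeCos.wit0.drop 90).drop 90) (0 + 90 + 90) = true := by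
  decide +kernel

theorem threeCos_wit00 : walk2 (cosWitB threeRep0 10 717 threeHex threeLow threeCert 0) (threeCos.reps.take 90) (threeCos.wit0.take 90) (0) = true := by
  decide +kernel

theorem threeCos_wit01 : walk2 (cosWitB threeRep0 10 717 threeHex threeLow threeCert 0) ((threeCos.reps.drop 90).take 90) ((threeCos.wit0.drop 90).take 90) (0 + 90) = true := by
  decide +kernel

theorem threeCos_wit02 : walk2 (cosWitB threeRep0 10 717 threeHex threeLow threeCert 0) ((threeCos.reps.drop 90).drop 90) ((threeCos.wit0.drop 90).drop 90) (0 + 90 + 90) = true := by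
  decide +kernel

theorem threeCos_wit10 : walk2 (cosWitB threeRep0 10 717 threeHex threeLow threeCert 1) (threeCos.reps.take 90) (threeCos.wit1.take 90) (0) = true := by
  decide +kernel

theorem threeCos_wit11 : walk2 (cosWitB threeRep0 10 717 threeHex threeLow threeCert 1) ((threeCos.reps.drop 90).take 90) ((threeCos.wit1.drop 90).take 90) (0 + 90) = true := by
  decide +kernel

theorem threeCos_wit12 : walk2 (cosWitB threeRep0 10 717 threeHex threeLow threeCert 1) ((threeCos.reps.drop 90).drop 90) ((threeCos.wit1.drop 90).drop 90) (0 + 90 + 90) = true := by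
  decide +kernel

theorem threeCos_rest : threeCos.restOk 10 717 threeHex threeLow threeCert = true := by
  decide +kernel

theorem threeCos_ok : threeCos.ok 10 717 threeHex threeLow threeCert = true :=
  Cos.ok_of_fast threeCert_shape (Cos.fastOk_of_parts threeCos_agree (walk2_split 90 threeCos_tree0 <| walk2_split 90 threeCos_tree1 <| threeCos_tree2) (walk2_split 90 threeCos_wit00 <| walk2_split 90 threeCos_wit01 <| threeCos_wit02) (walk2_split 90 threeCos_wit10 <| walk2_split 90 threeCos_wit11 <| threeCos_wit12)) threeCos_rest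

end Cfsg.Lib.PermAut.MTwentyTwo.Mult
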