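import Cfsg.Agent.Lib.PermAut.CoverProduct
import Cfsg.Agent.Lib.PermAut.MTwentyTwoMult.Cover
import Cfsg.Agent.Lib.PermAut.MTwentyTwoMult.NoStem
import Cfsg.Agent.Lib.PermAut.MTwentyTwoMult.HexCheck
import Cfsg.Agent.Lib.PermAut.MTwentyTwoMult.HexCosCheck
import Cfsg.Agent.Lib.PermAut.MTwentyTwoMult.HexCertCheck
import Cfsg.Agent.Lib.PermAut.MTwentyTwoMult.FuseCheck
import Cfsg.Agent.Lib.PermAut.MTwentyTwoMult.ThreeCheck
import Cfsg.Agent.Lib.PermAut.MTwentyTwoMult.ThreeCosCheck
import Cfsg.Agent.Lib.PermAut.MTwentyTwoMult.FourRestCheck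
import Cfsg.Agent.Lib.PermAut.MTwentyTwoMult.FourHexCheck
import Cfsg.Agent.Lib.PermAut.MTwentyTwoMult.FourPreCheck
import Cfsg.Agent.Lib.PermAut.MTwentyTwoMult.FourLowCheck
import Cfsg.Agent.Lib.PermAut.MTwentyTwoMult.FourRowsCheck

/-!
# The Schur multiplier of the Mathieu group of degree 22 is cyclic of order twelve
-/

set_option autoImplicit false

namespace Cfsg.Lib.PermAut.MTwentyTwo.Mult

open Cfsg Cfsg.Lib.Concrete

instance : NeZero 4952 := ⟨by norm_num⟩
instance : NeZero 717 := ⟨by norm_num⟩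

/-- The fourfold cover. -/
abbrev CoverFour : Type := ↥(fourSub.grp 13 4952)

/-- The threefold cover. -/
abbrev CoverThree : Type := ↥(threeSub.grp 10 717)

theorem fourValid : fourSub.Valid 13 4952 :=
  Sub.valid (Split.ok_of_parts fourSub_pre (Split.closedB_of fourSub_tree0 fourSub_rows0 fourSub_low) fourSub_base)

theorem threeValid : threeSub.Valid 10 717 := Sub.valid threeSub_ok

theorem noStem_two : NoStem 2 CoverFour := by
  have VH : fourHex.Valid 13 4952 := Sub.valid fourHex_ok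
  have VT : hexSub.Valid 7 88 := Sub.valid hexSub_ok
  have VL : hexLow.Valid 7 88 := Sub.valid hexLow_ok
  have ht := fourHex_top
  have hf := fuse_conj
  simp only [Bool.and_eq_true] at ht hf
  have gR := (rep_of_invPairOk (N := 4952) hf.1.1.1.1).1
  have hodd : ¬ 2 ∣ hexLow.size := by
    have h := Nat.eq_of_beq_eq_true hexLow_odd
    omega
  exact noStem_two_of_rest_fused (VH.le_of_paths fourValid ht.1.1.1 ht.1.1.2 ht.1.2 ht.2) (d := 77)
    (fourValid.card.trans four_size.2) (by decide) VH VT (by decide) hex_rest hex_size VL hexCos_ok _ hexCert_ok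
    hexSize_ok.1 (liftsAt_small Nat.prime_two VL (Cos.le VT VL hexCos_ok) hodd) fuse_word gR
    (fourValid.mem_of_same gR hf.1.1.1.2 hf.1.1.2) hf.1.2 hf.2

theorem noStem_three : NoStem 3 CoverThree := by
  haveI : Fact (Nat.Prime 3) := ⟨Nat.prime_three⟩
  have VH : threeHex.Valid 10 717 := Sub.valid threeHex_ok
  have VL : threeLow.Valid 10 717 := Sub.valid threeLow_ok
  have ht := three_top
  simp only [Bool.and_eq_true] at ht
  obtain ⟨-, hd, hs, hz⟩ := three_size
  exact noStem_of_le VH Nat.prime_three (VH.le_of_paths threeValid ht.1.1.1 ht.1.1.2 ht.1.2 ht.2) (d := 77)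
    (threeValid.card.trans hd) (by decide)
    (Cos.noStem VH VL threeCos_ok _ threeCert_ok hs
      (liftsAt_small Nat.prime_three VL (Cos.le VH VL threeCos_ok) fun h => by
        rw [Nat.dvd_iff_mod_eq_zero] at h
        rw [h] at hz
        exact Bool.noConfusion hz))

theorem four_ord : ∀ k < 4, 0 < k → sameB 13 4952 (List.replicate k fourZ) [] = false := by decide +kernel

theorem three_ord : ∀ k < 3, 0 < k → sameB 10 717 (List.replicate k threeZ) [] = false := by decide +kernel

theorem perfect_m22 : commutator ↥Spor.M22 = ⊤ := by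
  haveI := isSimple_sporM22
  refine ((inferInstance : (commutator ↥Spor.M22).Normal).eq_bot_or_eq_top).resolve_left fun h => ?_
  let _ : CommGroup ↥Spor.M22 := { (inferInstance : Group ↥Spor.M22) with
    mul_comm := fun a b => by
      have := Subgroup.commutator_mem_commutator (Subgroup.mem_top a) (Subgroup.mem_top b)
      rw [← _root_.commutator_def, h, Subgroup.mem_bot] at this
      exact commutatorElement_eq_one_iff_mul_comm.1 this }
  have hp := IsSimpleGroup.prime_card (α := ↥Spor.M22)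
  rw [card_sporM22] at hp
  norm_num at hp

theorem noStem_large {p : ℕ} (hp : p.Prime) (h2 : p ≠ 2) (h3 : p ≠ 3) : NoStem p CoverFour := by
  refine noStem_of_not_sq_dvd hp ?_
  rw [fourValid.card, four_size.1, show (4 * 443520 : ℕ) = 2 ^ 9 * 3 ^ 2 * (5 * 7 * 11) by norm_num]
  intro h
  have hc : ∀ q k : ℕ, q.Prime → p ≠ q → Nat.Coprime (p ^ 2) (q ^ k) := fun q k hq hne =>
    Nat.Coprime.pow _ _ ((Nat.coprime_primes hp hq).2 hne)
  have hd := ((hc 2 9 Nat.prime_two h2).mul_right (hc 3 2 Nat.prime_three h3)).dvd_of_dvd_mul_left h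
  have hle : p ^ 2 ≤ 5 * 7 * 11 := Nat.le_of_dvd (by norm_num) hd
  have hp20 : p < 20 := by nlinarith
  interval_cases p <;> first | omega | exact absurd hp (by norm_num) | exact absurd hd (by norm_num)

theorem multiplier : Cfsg.HasCyclicSchurMultiplier ↥Spor.M22 12 := by
  obtain ⟨e⟩ := nonempty_model
  have h4 := four_central
  rw [Bool.and_eq_true] at h4
  obtain ⟨σ, hσ, hσn, hσc⟩ := exists_stem_cyclic (n := 4) fourValid m22_valid (by decide) four_rest h4.1
    four_ord (four_size.1.trans (congrArg (4 * ·) m22Size.symm))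
  obtain ⟨τ, hτ, hτn, hτc⟩ := exists_stem_cyclic (n := 3) threeValid m22_valid (by decide) three_rest three_central
    three_ord (three_size.1.trans (congrArg (3 * ·) m22Size.symm))
  let σ₀ : CoverFour →* ↥Spor.M22 := e.toMonoidHom.comp σ
  let τ₀ : CoverThree →* ↥Spor.M22 := e.toMonoidHom.comp τ
  have hk : σ₀.ker = σ.ker := by ext x; simp [σ₀, MonoidHom.mem_ker]
  have hl : τ₀.ker = τ.ker := by ext x; simp [τ₀, MonoidHom.mem_ker]
  exact hasCyclic_of_two (a := 4) (b := 3) perfect_m22 (σ₁ := σ₀) (σ₂ := τ₀)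
    ⟨e.surjective.comp hσ.1, hk ▸ hσ.2.1, hk ▸ hσ.2.2⟩ ⟨e.surjective.comp hτ.1, hl ▸ hτ.2.1, hl ▸ hτ.2.2⟩
    (hk ▸ hσc) (hl ▸ hτc) (hk ▸ hσn) (hl ▸ hτn) (by decide) fun p hp => by
      by_cases h2 : p = 2
      · subst h2; exact Or.inl ⟨by decide, noStem_two⟩
      by_cases h3 : p = 3
      · subst h3; exact Or.inr ⟨by decide, noStem_three⟩
      exact Or.inl ⟨fun h => h3 ((Nat.prime_dvd_prime_iff_eq hp Nat.prime_three).1 h), noStem_large hp h2 h3⟩

end Cfsg.Lib.PermAut.MTwentyTwo.Mult
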