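import Cfsg.Agent.Lib.PermAut.MTwentyTwoMult.ThreeData
import Cfsg.Agent.Lib.PermAut.CertSplit

/-!
# The certificate at three
-/

set_option autoImplicit false
set_option maxRecDepth 100000
set_option Elab.async false

namespace Cfsg.Lib.PermAut.MTwentyTwo.Mult

open Cfsg.Lib.Concrete

theorem threeCert_ok : threeCert.check (@digitVec 3 threeCert.m ⟨by norm_num⟩) = true := by decide +kernel

theorem threeCert_shape : threeCert.shapeOk = true := StemPerm.shape_of_check _ threeCert_ok

end Cfsg.Lib.PermAut.MTwentyTwo.Mult
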